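import Cfsg.Agent.Cit.Nil.RTwo.SLEnd
import Cfsg.Agent.ThreePrime.Pump
import Cfsg.Agent.Lib.ThompsonPQ

/-!
# S1309, node (n2) THREE PROPAGATION, part I: inside `C(a)`

Blueprint: helper472 #17340 (n2), helper981 #17955 (0).

* `Over MM a` : `MM` are the members over the central involution `a` of `G` (= `C(a)`), `O(G) = 1`;
* `Cc MM a K c` : `c` of odd order normalises `K`, is not trivial on `K`, centralises `R = C_P(K)`, `P = O₂(G)`;
* `Over.comm_R` : the odd elements of `J` sn `C(s)` (`K ≤ J`, `16 ∤ |J|`) normalise `K` and centralise `R`;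
* `Over.le_sup` : `P ≤ K R`.
-/

set_option autoImplicit false
set_option linter.style.haveILetI false
set_option linter.unusedSectionVars false

namespace Cfsg.Agent.Cit.Nil.Three

open Subgroup Cfsg Cit RTwo

variable {G : Type*} [Group G]

/-! ### elements of odd order -/

theorem comm_of_pow_two {d k : G} (ho : Odd (orderOf d)) {n : ℕ} (h : Commute (d ^ 2 ^ n) k) : Commute d k := by
  have h1 : Nat.Coprime (2 ^ n) (orderOf d) := (Nat.coprime_two_left.2 ho).pow_left n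
  obtain ⟨m, hm⟩ := exists_pow_eq_self_of_coprime h1
  rw [← hm]
  exact h.pow_left m

/-- an element of odd order acting as an inner automorphism centralises -/
theorem comm_of_odd_inn {d k z : G} (hz : z * z = 1) (ho : Odd (orderOf d)) (hdz : d * z = z * d)
    (h : d * k * d⁻¹ = k ∨ d * k * d⁻¹ = z * k) : d * k = k * d := by
  refine (comm_of_pow_two ho (n := 1) ?_).eq
  have h1 : d * (d * k * d⁻¹) * d⁻¹ = k := by
    rcases h with h | h
    · rw [h, h]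
    · rw [h]
      calc d * (z * k) * d⁻¹ = (d * z) * k * d⁻¹ := by group
        _ = z * (d * k * d⁻¹) := by rw [hdz]; group
        _ = k := by rw [h, ← mul_assoc, hz, one_mul]
  rw [pow_one, pow_two]
  show d * d * k = k * (d * d)
  calc d * d * k = (d * (d * k * d⁻¹) * d⁻¹) * (d * d) := by group
    _ = _ := by rw [h1]

/-- a 2-element and an element of odd order with the same action act trivially -/
theorem comm_of_same {u c : G} {L : Subgroup G} {n : ℕ} (hu : u ^ 2 ^ n = 1) (ho : Odd (orderOf c))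
    (hL : ∀ x ∈ L, c * x * c⁻¹ ∈ L) (h : ∀ x ∈ L, u * x * u⁻¹ = c * x * c⁻¹) : ∀ x ∈ L, c * x = x * c := by
  have key : ∀ i : ℕ, ∀ x ∈ L, u ^ i * x * (u ^ i)⁻¹ = c ^ i * x * (c ^ i)⁻¹ ∧ c ^ i * x * (c ^ i)⁻¹ ∈ L := by
    intro i
    induction i with
    | zero => intro x hx; simpa using hx
    | succ i ih =>
      intro x hx
      obtain ⟨h1, h2⟩ := ih x hx
      have e1 : u ^ (i + 1) * x * (u ^ (i + 1))⁻¹ = u * (u ^ i * x * (u ^ i)⁻¹) * u⁻¹ := by
        rw [pow_succ' u i]; group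
      have e2 : c ^ (i + 1) * x * (c ^ (i + 1))⁻¹ = c * (c ^ i * x * (c ^ i)⁻¹) * c⁻¹ := by
        rw [pow_succ' c i]; group
      rw [e1, e2, h1]
      exact ⟨h _ h2, hL _ h2⟩
  intro x hx
  refine (comm_of_pow_two ho (n := n) ?_).eq
  have h1 := (key (2 ^ n) x hx).1
  rw [hu, one_mul, inv_one, mul_one] at h1
  show c ^ 2 ^ n * x = x * c ^ 2 ^ n
  rw [← mul_inv_eq_iff_eq_mul, ← h1]

theorem odd_perm {τ : Equiv.Perm (Fin 3)} {m : ℕ} (hm : Odd m) (h : τ ^ m = 1) : τ * τ * τ = 1 := by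
  have key : ∀ τ : Equiv.Perm (Fin 3), τ * τ * τ = 1 ∨ τ * τ = 1 := by decide
  rcases key τ with h1 | h1
  · exact h1
  · obtain ⟨k, hk⟩ := hm
    rw [hk, pow_succ, pow_mul, pow_two, h1, one_pow, one_mul] at h
    rw [h]; rfl

theorem two_perm {σ : Equiv.Perm (Fin 3)} {n : ℕ} (h : σ ^ 2 ^ n = 1) : σ * σ = 1 := by
  have key : ∀ τ : Equiv.Perm (Fin 3), τ * τ * τ = 1 ∨ τ * τ = 1 := by decide
  rcases key σ with h1 | h1
  · have h2 : orderOf σ ∣ 3 := orderOf_dvd_of_pow_eq_one (by rw [pow_succ, pow_two]; exact h1)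
    have h3 : orderOf σ ∣ 2 ^ n := orderOf_dvd_of_pow_eq_one h
    have h4 : Nat.Coprime 3 (2 ^ n) := Nat.Coprime.pow_right n (by norm_num)
    have h5 : σ = 1 := orderOf_eq_one_iff.1 (Nat.eq_one_of_dvd_coprimes h4 h2 h3)
    rw [h5]; rfl
  · exact h1

set_option maxRecDepth 20000 in
theorem perm_key' : ∀ σ τ : Equiv.Perm (Fin 3), τ ≠ 1 → τ * τ * τ = 1 → σ * σ = 1 → σ ≠ 1 →
    ¬ ((σ * (τ * σ * τ⁻¹)) * (σ * (τ * σ * τ⁻¹)) = 1) := by decide

theorem perm_key {σ τ : Equiv.Perm (Fin 3)} (h1 : σ * σ = 1) (h2 : τ * τ * τ = 1) (h3 : τ ≠ 1)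
    (h4 : (σ * (τ * σ * τ⁻¹)) * (σ * (τ * σ * τ⁻¹)) = 1) : σ = 1 := by
  by_contra h5
  exact perm_key' σ τ h3 h2 h1 h5 h4

theorem act_pow {z g : G} {x : Fin 3 → G} {σ : Equiv.Perm (Fin 3)} (hz : z * z = 1) (h : Act z x x g σ)
    (hg : g * z = z * g) (n : ℕ) : Act z x x (g ^ n) (σ ^ n) := by
  induction n with
  | zero => simpa using Act.one x z
  | succ n ih => rw [pow_succ', pow_succ']; exact ih.comp hz h hg

theorem act_inv {z g : G} {x : Fin 3 → G} {σ : Equiv.Perm (Fin 3)} {K : Subgroup G} (hx : Q3 K z x)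
    (h : Act z x x g σ) (hg : g * z = z * g) (hgK : cj g K = K) : Act z x x g⁻¹ σ⁻¹ := by
  have hgz : g⁻¹ * z = z * g⁻¹ := by
    rw [inv_mul_eq_iff_eq_mul, ← mul_assoc, hg, mul_inv_cancel_right]
  have hgK' : cj g⁻¹ K = K := by
    have := congrArg (cj g⁻¹) hgK
    rw [← cj_mul, inv_mul_cancel] at this
    simpa using this.symm
  obtain ⟨τ, hτ⟩ := hx.exists_act hx hgK' hgz
  have h1 := h.comp hx.z2 hτ hgz
  rw [inv_mul_cancel] at h1
  have h2 := h1.unique hx (Act.one x z)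
  rw [← eq_inv_of_mul_eq_one_left h2]
  exact hτ

/-! ### the subnormal subgroup `J` -/

/-- a 2-subgroup `T` normal in the group normalises the "odd part" of a subnormal subgroup -/
theorem conj_mem_of_subnormal [Finite G] {J : Subgroup G} (hJ : J.IsSubnormal) {c t : G} (hc : c ∈ J)
    (ho : Odd (orderOf c)) {n : ℕ} (ht : (t * c * t⁻¹ * c⁻¹) ^ 2 ^ n = 1) : t * c * t⁻¹ ∈ J := by
  induction hJ with
  | top => exact mem_top _
  | step H K h_le hSubn hN ih =>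
    have hcK := h_le hc
    have h1 := ih hcK
    have h2 : t * c * t⁻¹ * c⁻¹ ∈ K := mul_mem h1 (inv_mem hcK)
    have h3 : QuotientGroup.mk' (H.subgroupOf K) ⟨t * c * t⁻¹, h1⟩ =
        QuotientGroup.mk' (H.subgroupOf K) ⟨t * c * t⁻¹ * c⁻¹, h2⟩ := by
      rw [QuotientGroup.mk'_eq_mk']
      refine ⟨⟨c⁻¹, inv_mem hcK⟩, ?_, rfl⟩
      exact mem_subgroupOf.2 (H.inv_mem hc)
    have h4 : orderOf (QuotientGroup.mk' (H.subgroupOf K) ⟨t * c * t⁻¹, h1⟩) ∣ orderOf c := by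
      refine (orderOf_map_dvd _ _).trans ?_
      rw [Subgroup.orderOf_mk]
      have : orderOf (t * c * t⁻¹) = orderOf c := (MulAut.conj t).orderOf_eq c
      rw [this]
    have h5 : orderOf (QuotientGroup.mk' (H.subgroupOf K) ⟨t * c * t⁻¹, h1⟩) ∣ 2 ^ n := by
      rw [h3]
      refine (orderOf_map_dvd _ _).trans ?_
      rw [Subgroup.orderOf_mk]
      exact orderOf_dvd_of_pow_eq_one ht
    have h6 : Nat.Coprime (orderOf c) (2 ^ n) := Nat.Coprime.pow_right _ (Nat.coprime_two_right.2 ho)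
    have h7 := orderOf_eq_one_iff.1 (Nat.eq_one_of_dvd_coprimes h6 h4 h5)
    have h8 : (⟨t * c * t⁻¹, h1⟩ : K) ∈ H.subgroupOf K := (QuotientGroup.eq_one_iff _).1 h7
    exact mem_subgroupOf.1 h8

/-! ### the setting -/

/-- `MM` are the members over the central involution `a` -/
structure Over (MM : Set (Subgroup G)) (a : G) : Prop where
  q3 : ∀ K ∈ MM, ∃ x, Q3 K a x
  cen : ∀ g : G, g * a = a * g
  conj : ∀ K ∈ MM, ∀ g, cj g K ∈ MM
  comm : ∀ K ∈ MM, ∀ L ∈ MM, K ≠ L → ∀ k ∈ K, ∀ l ∈ L, k * l = l * k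
  le : ∀ K ∈ MM, K ≤ pCore 2 G
  core : oddCore G = ⊥

/-- `R = C_P(K)` -/
def RR (K : Subgroup G) : Subgroup G := pCore 2 G ⊓ centralizer (K : Set G)

theorem mem_RR {K : Subgroup G} {r : G} : r ∈ RR K ↔ r ∈ pCore 2 G ∧ ∀ k ∈ K, k * r = r * k := by
  rw [RR, mem_inf, mem_centralizer_iff]
  rfl

/-- `c` of odd order normalises `K`, is not trivial on `K` and centralises `C_P(K)` -/
structure Cc (K : Subgroup G) (c : G) : Prop where
  odd : Odd (orderOf c)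
  nor : cj c K = K
  nt : ∃ k ∈ K, c * k ≠ k * c
  cr : ∀ r ∈ RR K, c * r = r * c

section

variable [Finite G] {MM : Set (Subgroup G)} {a s c g r k : G} {K L J : Subgroup G} {x : Fin 3 → G}

theorem card_q3 (hx : Q3 K a x) : Nat.card K = 8 := by
  have e := hx.not_comm
  have h1 : K = closure {x 0, x 1} := by
    refine le_antisymm (hx.le_of_mem (i := 0) (j := 1) (by decide) (subset_closure (by simp))
      (subset_closure (by simp))) ?_
    rw [closure_le]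
    rintro y (rfl | rfl)
    · exact hx.mem 0
    · exact hx.mem 1
  rw [h1]
  refine Transfer.SL23Section.card_quaternion ?_ ?_
  · refine { hi := ?_, hj := ?_, hji := ?_ }
    · rw [show (4 : ℕ) = 2 * 2 from rfl, pow_mul, pow_two (x 0), hx.sq, pow_two, hx.z2]
    · rw [pow_two, pow_two, hx.sq, hx.sq]
    · have e := hx.conj_ne (i := 1) (j := 0) (by decide)
      rw [e, hx.inv]
  · rw [pow_two, hx.sq]; exact hx.z1

theorem mem_normalizer_of_cj (hc : cj c K = K) (hk : k ∈ K) : c * k * c⁻¹ ∈ K := by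
  rw [← hc]; exact conj_mem_cj hk

theorem cj_eq_of_mem (h : ∀ k ∈ K, c * k * c⁻¹ ∈ K) : cj c K = K := by
  refine Subgroup.eq_of_le_of_card_ge ?_ ?_
  · intro y hy
    rw [mem_cj] at hy
    have := h _ hy
    have e : c * (c⁻¹ * y * c) * c⁻¹ = y := by group
    rwa [e] at this
  · rw [card_cj]

theorem pow_two_of_mem (hg : g ∈ pCore 2 G) : ∃ n : ℕ, g ^ 2 ^ n = 1 := by
  haveI : Fact (Nat.Prime 2) := ⟨Nat.prime_two⟩
  obtain ⟨n, hn⟩ := Lib.Cores.pCore_isPGroup (G := G) 2 ⟨g, hg⟩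
  exact ⟨n, congrArg Subtype.val hn⟩

theorem conj_mem_pCore (hg : g ∈ pCore 2 G) (x : G) : x * g * x⁻¹ ∈ pCore 2 G := by
  haveI : Fact (Nat.Prime 2) := ⟨Nat.prime_two⟩
  have hn : (pCore 2 G).Normal := Lib.Cores.pCore_normal 2
  exact hn.conj_mem g hg x

theorem conj_mem_RR (hc : cj c K = K) (hr : r ∈ RR K) : c * r * c⁻¹ ∈ RR K := by
  rw [mem_RR] at hr ⊢
  refine ⟨conj_mem_pCore hr.1 c, fun k hk => ?_⟩
  have h1 : c⁻¹ * k * c ∈ K := by rw [← mem_cj, hc]; exact hk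
  have h2 := hr.2 _ h1
  calc k * (c * r * c⁻¹) = c * ((c⁻¹ * k * c) * r) * c⁻¹ := by group
    _ = c * (r * (c⁻¹ * k * c)) * c⁻¹ := by rw [h2]
    _ = _ := by group

namespace Over

theorem a2 (h : Over MM a) (hK : K ∈ MM) : a * a = 1 := by
  obtain ⟨x, hx⟩ := h.q3 K hK
  exact hx.z2

theorem a1 (h : Over MM a) (hK : K ∈ MM) : a ≠ 1 := by
  obtain ⟨x, hx⟩ := h.q3 K hK
  exact hx.z1

/-- distinct members: one centralises the other -/
theorem le_RR (h : Over MM a) (hK : K ∈ MM) (hL : L ∈ MM) (hne : L ≠ K) : L ≤ RR K := by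
  intro l hl
  exact mem_RR.2 ⟨h.le L hL hl, fun k hk => h.comm K hK L hL hne.symm k hk l hl⟩

/-- an element centralising `C_P(K)` normalises `K` -/
theorem cj_eq_of_cr (h : Over MM a) (hK : K ∈ MM) (hg : ∀ r ∈ RR K, g * r = r * g) : cj g K = K := by
  by_contra hne
  have h1 := h.le_RR hK (h.conj K hK g) hne
  apply hne
  refine Subgroup.eq_of_le_of_card_ge ?_ (by rw [card_cj])
  intro y hy
  have h2 := hg y (h1 hy)
  rw [mem_cj] at hy
  have e : g⁻¹ * y * g = y := by rw [mul_assoc, ← h2, inv_mul_cancel_left]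
  rwa [e] at hy

/-- elements of `K ∩ C_P(K)` -/
theorem mem_or (h : Over MM a) (hK : K ∈ MM) (hr : r ∈ RR K) (hk : r ∈ K) : r = 1 ∨ r = a := by
  obtain ⟨x, hx⟩ := h.q3 K hK
  have h1 := (mem_RR.1 hr).2
  exact hx.cent hk (i := 0) (j := 1) (by decide) (h1 _ (hx.mem 0)).symm (h1 _ (hx.mem 1)).symm

/-- **(i)** the odd elements of `J` -/
theorem comm_R (h : Over MM a) (hK : K ∈ MM) (hs2 : s * s = 1) (hsK : ∀ k ∈ K, s * k = k * s)
    (hKJ : K ≤ J) (hJ : J ≤ centralizer {s}) (hsub : (J.subgroupOf (centralizer {s})).IsSubnormal)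
    (hcard : ¬ 16 ∣ Nat.card J) (hc : c ∈ J) (ho : Odd (orderOf c)) :
    cj c K = K ∧ ∀ r ∈ RR K, c * r = r * c := by
  haveI : Fact (Nat.Prime 2) := ⟨Nat.prime_two⟩
  obtain ⟨x, hx⟩ := h.q3 K hK
  -- `J ∩ P = K`
  have hJP : J ⊓ pCore 2 G = K := by
    symm
    refine Subgroup.eq_of_le_of_card_ge (le_inf hKJ (h.le K hK)) ?_
    rw [card_q3 hx]
    have h1 : IsPGroup 2 (J ⊓ pCore 2 G : Subgroup G) := (Lib.Cores.pCore_isPGroup (G := G) 2).to_le inf_le_right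
    obtain ⟨n, hn⟩ := IsPGroup.iff_card.1 h1
    rw [hn]
    by_contra hlt
    push Not at hlt
    have h2 : 4 ≤ n := by
      by_contra h3
      have h4 : n ≤ 3 := by omega
      have h5 : 2 ^ n ≤ 2 ^ 3 := Nat.pow_le_pow_right (by norm_num) h4
      omega
    apply hcard
    have h6 : (16 : ℕ) ∣ 2 ^ n := by
      rw [show (16 : ℕ) = 2 ^ 4 from rfl]
      exact pow_dvd_pow 2 h2
    rw [← hn] at h6
    exact h6.trans (card_dvd_of_le inf_le_left)
  have hcs : c * s = s * c := mem_centralizer_singleton_iff.1 (hJ hc)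
  -- `[t, c] ∈ K` for `t ∈ C_P(s)`
  have hcom : ∀ t ∈ pCore 2 G, t * s = s * t → t * c * t⁻¹ * c⁻¹ ∈ K := by
    intro t ht hts
    have htY : t ∈ centralizer ({s} : Set G) := mem_centralizer_singleton_iff.2 hts
    have h1 : t * c * t⁻¹ * c⁻¹ ∈ pCore 2 G := by
      have h2 := (pCore 2 G).mul_mem ht (conj_mem_pCore ((pCore 2 G).inv_mem ht) c)
      have e : t * (c * t⁻¹ * c⁻¹) = t * c * t⁻¹ * c⁻¹ := by group
      rwa [e] at h2
    obtain ⟨n, hn⟩ := pow_two_of_mem h1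
    have h3 := conj_mem_of_subnormal (G := ↥(centralizer ({s} : Set G))) hsub (c := ⟨c, hJ hc⟩) (t := ⟨t, htY⟩)
      (mem_subgroupOf.2 hc) (by rw [Subgroup.orderOf_mk]; exact ho) (n := n) (Subtype.ext hn)
    have h4 : t * c * t⁻¹ ∈ J := mem_subgroupOf.1 h3
    rw [← hJP]
    exact ⟨J.mul_mem h4 (J.inv_mem hc), h1⟩
  have hcK : cj c K = K := by
    refine cj_eq_of_mem fun k hk => ?_
    rw [← hJP]
    exact ⟨J.mul_mem (J.mul_mem hc (hKJ hk)) (J.inv_mem hc), conj_mem_pCore (h.le K hK hk) c⟩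
  refine ⟨hcK, ?_⟩
  -- `C_R(s)`
  have hRs : ∀ r ∈ RR K, r * s = s * r → c * r = r * c := by
    intro r hr hrs
    have h1 := hcom r (mem_RR.1 hr).1 hrs
    have h2 : r * c * r⁻¹ * c⁻¹ ∈ RR K := by
      have h3 := (RR K).mul_mem hr (conj_mem_RR hcK ((RR K).inv_mem hr))
      have e : r * (c * r⁻¹ * c⁻¹) = r * c * r⁻¹ * c⁻¹ := by group
      rwa [e] at h3
    refine comm_of_odd_inn (h.a2 hK) ho (h.cen c) ?_
    rcases h.mem_or hK h2 h1 with h3 | h3
    · left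
      rw [mul_inv_eq_one, mul_inv_eq_iff_eq_mul] at h3
      rw [← h3, mul_inv_cancel_right]
    · right
      have e : r * c * r⁻¹ * c⁻¹ = r * (c * r⁻¹ * c⁻¹) := by group
      rw [e] at h3
      have e2 : c * r * c⁻¹ = (c * r⁻¹ * c⁻¹)⁻¹ := by group
      have e3 : c * r⁻¹ * c⁻¹ = r⁻¹ * a := by rw [← h3]; group
      rw [e2, e3, mul_inv_rev, inv_inv, inv_eq_of_mul_eq_one_right (h.a2 hK)]
  -- `A × B`
  have h5 : zpowers c ≤ centralizer ((RR K : Subgroup G) : Set G) := by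
    refine Lib.ThompsonPQ.thompson_p_times_q 2 (zpowers s) (zpowers c) (RR K) ?_ ?_ ?_ ?_ ?_ ?_ ?_
    · rintro ⟨y, m, rfl⟩
      refine ⟨1, Subtype.ext ?_⟩
      show (s ^ m) ^ 2 ^ 1 = 1
      rw [pow_one, ← zpow_natCast, ← zpow_mul, mul_comm, zpow_mul, zpow_natCast, pow_two, hs2, one_zpow]
    · rw [Nat.card_zpowers]; exact Nat.coprime_two_right.2 ho
    · exact (Lib.Cores.pCore_isPGroup (G := G) 2).to_le inf_le_left
    · rw [zpowers_le, mem_centralizer_iff]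
      rintro _ ⟨m, rfl⟩
      have : Commute c s := hcs
      exact (this.zpow_left m).eq
    · rw [zpowers_le]
      have hsK' : cj s K = K := cj_eq_of_mem fun k hk => by rw [hsK k hk, mul_inv_cancel_right]; exact hk
      rw [mem_normalizer_iff_cj]
      exact cj_eq_of_mem fun r hr => conj_mem_RR hsK' hr
    · rw [zpowers_le, mem_normalizer_iff_cj]
      exact cj_eq_of_mem fun r hr => conj_mem_RR hcK hr
    · rintro r ⟨hr, hrs⟩
      have h6 := hRs r hr (mem_centralizer_iff.1 hrs s (mem_zpowers s)).symm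
      refine mem_centralizer_iff.2 ?_
      rintro _ ⟨m, rfl⟩
      have : Commute c r := h6
      exact (this.zpow_left m).eq
  intro r hr
  exact (mem_centralizer_iff.1 (h5 (mem_zpowers c)) r hr).symm

end Over

namespace Cc

variable (h : Over MM a) (hK : K ∈ MM) (hc : Cc K c) (hx : Q3 K a x)

include h hK hc hx

/-- the action of `c` -/
theorem exists_act : ∃ τ : Equiv.Perm (Fin 3), Act a x x c τ ∧ τ * τ * τ = 1 ∧ τ ≠ 1 := by
  obtain ⟨τ, hτ⟩ := hx.exists_act hx hc.nor (h.cen c)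
  have h1 := act_pow hx.z2 hτ (h.cen c) (orderOf c)
  rw [pow_orderOf_eq_one] at h1
  refine ⟨τ, hτ, odd_perm hc.odd (h1.unique hx (Act.one x a)), ?_⟩
  rintro rfl
  obtain ⟨k, hk, hne⟩ := hc.nt
  exact hne (comm_of_odd_inn hx.z2 hc.odd (h.cen c) (Act.inner hx hτ (h.cen c) k hk))

/-- **(ii a)** `O₂(G)` normalises `K` -/
theorem cj_eq (hg : g ∈ pCore 2 G) : cj g K = K := by
  by_contra hne
  have h1 : cj g K ≤ RR K := h.le_RR hK (h.conj K hK g) hne
  -- `c' = c u`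
  obtain ⟨c', hc'⟩ : ∃ c', c' = g * c * g⁻¹ := ⟨_, rfl⟩
  obtain ⟨u, hu⟩ : ∃ u, u = c⁻¹ * (g * c * g⁻¹) := ⟨_, rfl⟩
  have huP : u ∈ pCore 2 G := by
    have h2 := (pCore 2 G).mul_mem (conj_mem_pCore hg c⁻¹) ((pCore 2 G).inv_mem hg)
    have e : c⁻¹ * g * c⁻¹⁻¹ * g⁻¹ = u := by rw [hu]; group
    rwa [e] at h2
  obtain ⟨n, hn⟩ := pow_two_of_mem huP
  have ho : Odd (orderOf c') := by
    have : orderOf (g * c * g⁻¹) = orderOf c := (MulAut.conj g).orderOf_eq c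
    rw [hc', this]; exact hc.odd
  have hL : ∀ y ∈ cj g K, c' * y * c'⁻¹ ∈ cj g K := by
    intro y hy
    rw [mem_cj] at hy ⊢
    have h2 := mem_normalizer_of_cj hc.nor hy
    have e : g⁻¹ * (c' * y * c'⁻¹) * g = c * (g⁻¹ * y * g) * c⁻¹ := by rw [hc']; group
    rw [e]; exact h2
  have h2 : ∀ y ∈ cj g K, u * y * u⁻¹ = c' * y * c'⁻¹ := by
    intro y hy
    have h3 := hc.cr _ (h1 (hL y hy))
    have e : u * y * u⁻¹ = c⁻¹ * (c' * y * c'⁻¹) * c := by rw [hu, hc']; group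
    rw [e, mul_assoc, ← h3, inv_mul_cancel_left]
  have h3 := comm_of_same hn ho hL h2
  obtain ⟨k, hk, hne'⟩ := hc.nt
  apply hne'
  have h4 := h3 (g * k * g⁻¹) (conj_mem_cj hk)
  have e1 : c * k = g⁻¹ * (c' * (g * k * g⁻¹)) * g := by rw [hc']; group
  have e2 : k * c = g⁻¹ * ((g * k * g⁻¹) * c') * g := by rw [hc']; group
  rw [e1, e2, h4]

/-- **(ii)** `P = K R` -/
theorem exists_mul (hg : g ∈ pCore 2 G) : ∃ k ∈ K, ∃ r ∈ RR K, g = k * r := by
  obtain ⟨τ, hτ, h3, h1⟩ := hc.exists_act h hK hx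
  have hgK := hc.cj_eq h hK hx hg
  obtain ⟨σ, hσ⟩ := hx.exists_act hx hgK (h.cen g)
  have sq : ∀ {y : G} {ρ : Equiv.Perm (Fin 3)}, y ∈ pCore 2 G → Act a x x y ρ → ρ * ρ = 1 := by
    intro y ρ hy hρ
    obtain ⟨n, hn⟩ := pow_two_of_mem hy
    have h4 := act_pow hx.z2 hρ (h.cen y) (2 ^ n)
    rw [hn] at h4
    exact two_perm (h4.unique hx (Act.one x a))
  have hσ1 : σ = 1 := by
    refine perm_key (sq hg hσ) h3 h1 (sq (y := g * (c * g * c⁻¹)) ?_ ?_)
    · exact (pCore 2 G).mul_mem hg (conj_mem_pCore hg c)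
    · have h4 := act_inv hx hτ (h.cen c) hc.nor
      have h5 := h4.comp hx.z2 hσ (h.cen g)
      have h6 := h5.comp hx.z2 hτ (h.cen c)
      have h7 := h6.comp hx.z2 hσ (h.cen g)
      have e1 : g * (c * (g * c⁻¹)) = g * (c * g * c⁻¹) := by group
      have e2 : σ * (τ * (σ * τ⁻¹)) = σ * (τ * σ * τ⁻¹) := by group
      rwa [e1, e2] at h7
  rw [hσ1] at hσ
  obtain ⟨k, hk, h5⟩ : ∃ k ∈ K, ∀ l ∈ K, g * l * g⁻¹ = k * l * k⁻¹ := by
    rcases hx.inner_cases (Act.inner hx hσ (h.cen g)) with h4 | ⟨j, h4⟩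
    · exact ⟨1, one_mem K, fun l hl => by rw [h4 l hl]; group⟩
    · exact ⟨x j, hx.mem j, h4⟩
  refine ⟨k, hk, k⁻¹ * g, mem_RR.2 ⟨(pCore 2 G).mul_mem ((pCore 2 G).inv_mem (h.le K hK hk)) hg, ?_⟩, by group⟩
  intro l hl
  have h6 := h5 l hl
  calc l * (k⁻¹ * g) = k⁻¹ * (k * l * k⁻¹) * g := by group
    _ = k⁻¹ * (g * l * g⁻¹) * g := by rw [h6]
    _ = _ := by group

end Cc

end

end Cfsg.Agent.Cit.Nil.Three
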