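import Cfsg.Agent.Cit.Nil.Three.Princ
import Cfsg.Agent.Cit.Nil.RTwo.QLem
import Cfsg.Agent.Cit.Nil.IndDefs
import Cfsg.Agent.PLocal.SubnormalCore
import Cfsg.Agent.S1303

/-!
# S1309, node (n2) THREE PROPAGATION: part I for a Hyp family (members of order 8)

* `H8 Om` : Hyp, members of order 8;  `MMa Om a` : the members over `a` as subgroups of `C(a)`;
* `H8.over` : `Over (MMa Om a)` if `O(C(a)) = 1`;
* `H8.comm_R` : (i);  `H8.exists_mul` : (ii) `P = K R`;  `H8.three` : the PRINCIPLE, conclusion `IndDefs.Three K`.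
-/

set_option autoImplicit false
set_option linter.style.haveILetI false
set_option linter.unusedSectionVars false
set_option maxHeartbeats 400000

namespace Cfsg.Agent.Cit.Nil.Three

open Subgroup Cfsg Cit RTwo IndDefs

variable {G : Type*} [Group G]

/-- the frame world: Hyp, all members of order 8 -/
structure H8 (Om : Set (Subgroup G)) : Prop where
  hyp : Hyp Om
  card : ∀ K ∈ Om, Nat.card K = 8

/-- the members over `a` in `C(a)` -/
def MMa (Om : Set (Subgroup G)) (a : G) : Set (Subgroup ↥(centralizer ({a} : Set G))) :=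
  {M | ∃ K ∈ Om, zz K = a ∧ M = K.subgroupOf (centralizer {a})}

theorem self_mem (a : G) : a ∈ centralizer ({a} : Set G) := mem_centralizer_singleton_iff.2 rfl

/-- `a` as an element of `C(a)` -/
def ac (a : G) : ↥(centralizer ({a} : Set G)) := ⟨a, self_mem a⟩

section

variable [Finite G] {Om : Set (Subgroup G)} {K L J : Subgroup G} {a c s g : G}

theorem H8.isPGroup (h : H8 Om) (hK : K ∈ Om) : IsPGroup 2 K := by
  refine IsPGroup.of_card (n := 3) ?_
  rw [h.card K hK]; norm_num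

theorem H8.exists_q3 (h : H8 Om) (hK : K ∈ Om) : ∃ x, Q3 K (zz K) x := by
  obtain ⟨c, v, n, hgq⟩ := h.hyp.exists_gq hK (syl_self (h.isPGroup hK))
  have hn : n = 0 := by
    have h1 := hgq.card
    rw [h.card K hK] at h1
    have h2 : (2 : ℕ) ^ 3 = 2 ^ (n + 3) := by rw [← h1]; norm_num
    have h3 := Nat.pow_right_injective (le_refl 2) h2
    omega
  subst hn
  have hcc : c * c = zz K := by
    have h1 := hgq.w_sq
    rwa [pow_zero, pow_one] at h1
  have hvv : v * v = zz K := hgq.v_sq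
  have hz2 : zz K * zz K = 1 := hgq.z_mul
  have hzc : zz K * c = c * zz K := by rw [← hcc, mul_assoc]
  have hzv : zz K * v = v * zz K := by rw [← hvv, mul_assoc]
  have hci : c⁻¹ = zz K * c := by
    apply inv_eq_of_mul_eq_one_right
    rw [hzc, ← mul_assoc, hcc, hz2]
  have hvc : v * c = zz K * (c * v) := by
    have h1 := hgq.conj_pow 1
    rw [pow_one] at h1
    rw [h1, hci, mul_assoc]
  have hcvc : c * v * c = v := by
    rw [mul_assoc, hvc]
    calc c * (zz K * (c * v)) = (c * zz K) * (c * v) := by group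
      _ = (zz K * c) * (c * v) := by rw [hzc]
      _ = zz K * (c * c) * v := by group
      _ = v := by rw [hcc, hz2, one_mul]
  have hvcv : v * (c * v) = c := by
    calc v * (c * v) = (v * c) * v := by group
      _ = zz K * (c * v) * v := by rw [hvc]
      _ = zz K * (c * (v * v)) := by group
      _ = zz K * (c * zz K) := by rw [hvv]
      _ = zz K * (zz K * c) := by rw [hzc]
      _ = c := by rw [← mul_assoc, hz2, one_mul]
  -- powers of `c`
  have hpow : ∀ i : ℤ, c ^ i = 1 ∨ c ^ i = c ∨ c ^ i = zz K ∨ c ^ i = zz K * c := by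
    intro i
    have h4 : c ^ (4 : ℤ) = 1 := by
      have : c ^ (4 : ℤ) = (c * c) * (c * c) := by
        rw [show (4 : ℤ) = ((4 : ℕ) : ℤ) from rfl, zpow_natCast]
        simp only [pow_succ, pow_zero, one_mul, mul_assoc]
      rw [this, hcc, hz2]
    have h5 : c ^ i = c ^ (i % 4) := by
      conv_lhs => rw [← Int.emod_add_mul_ediv i 4, zpow_add, zpow_mul, h4, one_zpow, mul_one]
    have h6 : i % 4 = 0 ∨ i % 4 = 1 ∨ i % 4 = 2 ∨ i % 4 = 3 := by omega
    rw [h5]
    rcases h6 with h6 | h6 | h6 | h6 <;> rw [h6]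
    · left; exact zpow_zero c
    · right; left; exact zpow_one c
    · right; right; left
      have : c ^ (2 : ℤ) = c * c := by
        rw [show (2 : ℤ) = ((2 : ℕ) : ℤ) from rfl, zpow_natCast, pow_two]
      rw [this, hcc]
    · right; right; right
      have : c ^ (3 : ℤ) = (c * c) * c := by
        rw [show (3 : ℤ) = ((3 : ℕ) : ℤ) from rfl, zpow_natCast]
        simp only [pow_succ, pow_zero, one_mul]
      rw [this, hcc]
  refine ⟨![c, v, c * v], ?_, ?_, ?_, hz2, hgq.z_ne, ?_⟩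
  · intro m
    fin_cases m
    · exact hgq.c_mem
    · exact hgq.v_mem
    · exact mul_mem hgq.c_mem hgq.v_mem
  · intro m
    fin_cases m
    · exact hcc
    · exact hvv
    · show c * v * (c * v) = zz K
      rw [← mul_assoc, hcvc, hvv]
  · intro m
    fin_cases m
    · rfl
    · exact hvcv
    · exact hcvc
  · intro k hk
    rcases hgq.covZ hk with h1 | ⟨i, h1⟩
    · obtain ⟨i, hi⟩ := mem_zpowers_iff.1 h1
      rcases hpow i with h2 | h2 | h2 | h2
      · left; rw [← hi, h2]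
      · right; right; exact ⟨0, Or.inl (by rw [← hi, h2]; rfl)⟩
      · right; left; rw [← hi, h2]
      · right; right; exact ⟨0, Or.inr (by rw [← hi, h2]; rfl)⟩
    · rcases hpow i with h2 | h2 | h2 | h2
      · right; right; exact ⟨1, Or.inl (by rw [h1, h2, mul_one]; rfl)⟩
      · right; right; exact ⟨2, Or.inr (by rw [h1, h2, hvc]; rfl)⟩
      · right; right; exact ⟨1, Or.inr (by rw [h1, h2, ← hzv]; rfl)⟩
      · right; right
        refine ⟨2, Or.inl ?_⟩
        rw [h1, h2]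
        show v * (zz K * c) = c * v
        calc v * (zz K * c) = (v * zz K) * c := by group
          _ = (zz K * v) * c := by rw [hzv]
          _ = zz K * (v * c) := by group
          _ = c * v := by rw [hvc, ← mul_assoc, hz2, one_mul]


theorem H8.comm (h : H8 Om) (hK : K ∈ Om) (hL : L ∈ Om) (hz : zz K = zz L) (hne : K ≠ L) :
    ∀ k ∈ K, ∀ l ∈ L, k * l = l * k := by
  intro k hk l hl
  rcases h.hyp.h2 K hK L hL hz with h1 | h1
  · exact absurd h1 hne
  rw [OO_eq_bot_of_two (h.isPGroup hK), bot_inf_eq, le_bot_iff,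
    Subgroup.commutator_eq_bot_iff_le_centralizer] at h1
  exact (mem_centralizer_iff.1 (h1 hk) l hl).symm

theorem q3_subgroupOf {C : Subgroup G} {z : G} {x : Fin 3 → G} (hx : Q3 K z x) (hKC : K ≤ C) :
    Q3 (K.subgroupOf C) ⟨z, hKC hx.zmem⟩ (fun i => ⟨x i, hKC (hx.mem i)⟩) where
  mem i := mem_subgroupOf.2 (hx.mem i)
  sq i := Subtype.ext (hx.sq i)
  mul i := Subtype.ext (hx.mul i)
  z2 := Subtype.ext hx.z2
  z1 := fun h => hx.z1 (congrArg Subtype.val h)
  cov k hk := by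
    rcases hx.cov _ (mem_subgroupOf.1 hk) with h1 | h1 | ⟨i, h1 | h1⟩
    · exact Or.inl (Subtype.ext h1)
    · exact Or.inr (Or.inl (Subtype.ext h1))
    · exact Or.inr (Or.inr ⟨i, Or.inl (Subtype.ext h1)⟩)
    · exact Or.inr (Or.inr ⟨i, Or.inr (Subtype.ext h1)⟩)

theorem H8.le (h : H8 Om) (hK : K ∈ Om) : K ≤ centralizer {zz K} := h.hyp.le_centralizer hK

theorem H8.mem_MMa (hK : K ∈ Om) : K.subgroupOf (centralizer {zz K}) ∈ MMa Om (zz K) := ⟨K, hK, rfl, rfl⟩

/-- the members over `a` in `C(a)` -/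
theorem H8.over (h : H8 Om) (hcore : oddCore ↥(centralizer ({a} : Set G)) = ⊥) : Over (MMa Om a) (ac a) where
  q3 := by
    rintro _ ⟨K, hK, rfl, rfl⟩
    obtain ⟨x, hx⟩ := h.exists_q3 hK
    exact ⟨_, q3_subgroupOf hx (h.le hK)⟩
  cen g := Subtype.ext (mem_centralizer_singleton_iff.1 g.2)
  conj := by
    rintro _ ⟨K, hK, rfl, rfl⟩ g
    have hg : (g : G) * zz K = zz K * g := mem_centralizer_singleton_iff.1 g.2
    refine ⟨cj (g : G) K, h.hyp.conj K hK g, ?_, ?_⟩
    · rw [h.hyp.zz_cj hK, hg, mul_inv_cancel_right]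
    · ext y
      rw [mem_cj, mem_subgroupOf, mem_subgroupOf, mem_cj]
      rfl
  comm := by
    rintro _ ⟨K, hK, rfl, rfl⟩ _ ⟨L, hL, hz, rfl⟩ hne k hk l hl
    have hKL : K ≠ L := by rintro rfl; exact hne rfl
    exact Subtype.ext (h.comm hK hL hz.symm hKL k (mem_subgroupOf.1 hk) l (mem_subgroupOf.1 hl))
  le := by
    rintro _ ⟨K, hK, rfl, rfl⟩
    exact Cfsg.Agent.PLocal.SubnormalCore.le_pCore_of_isSubnormal (h.hyp.sub K hK) (h.isPGroup hK).comap_subtype
  core := hcore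

/-- `C_P(K)`, `P = O₂(C(a))` -/
def CP (a : G) (K : Subgroup G) : Subgroup G := (RR (K.subgroupOf (centralizer ({a} : Set G)))).map (centralizer {a}).subtype

theorem mem_CP : g ∈ CP a K ↔ (∃ hg : g ∈ centralizer ({a} : Set G), (⟨g, hg⟩ : ↥(centralizer ({a} : Set G))) ∈
    pCore 2 ↥(centralizer ({a} : Set G))) ∧ ∀ k ∈ K, k ∈ centralizer ({a} : Set G) → k * g = g * k := by
  rw [CP, mem_map]
  constructor
  · rintro ⟨y, hy, rfl⟩
    rw [mem_RR] at hy
    exact ⟨⟨y.2, hy.1⟩, fun k hk hka => congrArg Subtype.val (hy.2 ⟨k, hka⟩ (mem_subgroupOf.2 hk))⟩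
  · rintro ⟨⟨hg, h1⟩, h2⟩
    refine ⟨⟨g, hg⟩, mem_RR.2 ⟨h1, fun k hk => Subtype.ext (h2 k (mem_subgroupOf.1 hk) k.2)⟩, rfl⟩

/-- the hypotheses on `c` -/
structure CK (K : Subgroup G) (c : G) : Prop where
  odd : Odd (orderOf c)
  nor : cj c K = K
  nt : ∃ k ∈ K, c * k ≠ k * c
  cr : ∀ r ∈ CP (zz K) K, c * r = r * c

theorem H8.mem_cent (h : H8 Om) (hK : K ∈ Om) (hc : cj c K = K) : c ∈ centralizer ({zz K} : Set G) :=
  h.hyp.normalizer_le hK (mem_normalizer_iff_cj.2 hc)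

theorem H8.cc (h : H8 Om) (hK : K ∈ Om) (hc : CK K c) :
    Cc (K.subgroupOf (centralizer {zz K})) (⟨c, h.mem_cent hK hc.nor⟩ : ↥(centralizer ({zz K} : Set G))) where
  odd := by rw [Subgroup.orderOf_mk]; exact hc.odd
  nor := by
    ext y
    rw [mem_cj, mem_subgroupOf, mem_subgroupOf]
    have h1 : ∀ u : G, u ∈ K ↔ c⁻¹ * u * c ∈ K := fun u => by
      conv_lhs => rw [← hc.nor]
      exact mem_cj
    exact (h1 (y : G)).symm
  nt := by
    obtain ⟨k, hk, hne⟩ := hc.nt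
    exact ⟨⟨k, h.le hK hk⟩, mem_subgroupOf.2 hk, fun e => hne (congrArg Subtype.val e)⟩
  cr := fun r hr => Subtype.ext (hc.cr r (mem_map.2 ⟨r, hr, rfl⟩))

/-- **(i)** the odd elements of `J`, a subnormal subgroup of `C(a) ∩ C(s)` containing `K`, `16 ∤ |J|` -/
theorem H8.comm_R (h : H8 Om) (hK : K ∈ Om) (hcore : oddCore ↥(centralizer ({zz K} : Set G)) = ⊥) (hs2 : s * s = 1)
    (hsK : ∀ k ∈ K, s * k = k * s) (hKJ : K ≤ J) (hJ : J ≤ centralizer {zz K} ⊓ centralizer {s})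
    (hsub : (J.subgroupOf (centralizer {zz K} ⊓ centralizer {s})).IsSubnormal) (hcard : ¬ 16 ∣ Nat.card J)
    (hc : c ∈ J) (ho : Odd (orderOf c)) : cj c K = K ∧ ∀ r ∈ CP (zz K) K, c * r = r * c := by
  obtain ⟨C, hC⟩ : ∃ C : Subgroup G, C = centralizer {zz K} := ⟨_, rfl⟩
  have hsz : s * zz K = zz K * s := hsK _ (h.hyp.zz_mem hK)
  have hsC : s ∈ centralizer ({zz K} : Set G) := mem_centralizer_singleton_iff.2 hsz
  have hJC : J ≤ centralizer ({zz K} : Set G) := hJ.trans inf_le_left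
  obtain ⟨s', hs'⟩ : ∃ s' : ↥(centralizer ({zz K} : Set G)), s' = ⟨s, hsC⟩ := ⟨_, rfl⟩
  obtain ⟨J', hJ'⟩ : ∃ J' : Subgroup ↥(centralizer ({zz K} : Set G)), J' = J.subgroupOf (centralizer {zz K}) :=
    ⟨_, rfl⟩
  have hJ's : J' ≤ centralizer {s'} := by
    intro y hy
    rw [hJ'] at hy
    rw [mem_centralizer_singleton_iff, hs']
    exact Subtype.ext (mem_centralizer_singleton_iff.1 (hJ (mem_subgroupOf.1 hy)).2)
  have hsub' : (J'.subgroupOf (centralizer {s'})).IsSubnormal := by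
    -- the isomorphism `C_{C(z)}(s') ≃ C(z) ∩ C(s)`
    have hmem : ∀ y : ↥(centralizer ({s'} : Set ↥(centralizer ({zz K} : Set G)))),
        (y : ↥(centralizer ({zz K} : Set G))).1 ∈ centralizer {zz K} ⊓ centralizer {s} := by
      intro y
      refine ⟨y.1.2, mem_centralizer_singleton_iff.2 ?_⟩
      have h1 : ((y : ↥(centralizer ({zz K} : Set G))) : G) * (s' : G) = (s' : G) * (y : ↥(centralizer ({zz K} : Set G))) :=
        congrArg Subtype.val (mem_centralizer_singleton_iff.1 y.2)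
      have h2 : (s' : G) = s := by rw [hs']
      rwa [h2] at h1
    obtain ⟨f, hf⟩ : ∃ f : ↥(centralizer ({s'} : Set ↥(centralizer ({zz K} : Set G)))) →*
        ↥(centralizer {zz K} ⊓ centralizer {s} : Subgroup G), ∀ y, (f y : G) = y.1.1 :=
      ⟨{ toFun := fun y => ⟨y.1.1, hmem y⟩, map_one' := rfl, map_mul' := fun _ _ => rfl }, fun _ => rfl⟩
    have h1 := hsub.comap f
    have h2 : (J.subgroupOf (centralizer {zz K} ⊓ centralizer {s})).comap f = J'.subgroupOf (centralizer {s'}) := by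
      ext y
      rw [mem_comap, mem_subgroupOf, mem_subgroupOf, hJ', mem_subgroupOf, hf]
    rwa [h2] at h1
  have hcard' : ¬ 16 ∣ Nat.card J' := by
    rw [hJ', Nat.card_congr (subgroupOfEquivOfLe hJC).toEquiv]
    exact hcard
  obtain ⟨c', hc'⟩ : ∃ c' : ↥(centralizer ({zz K} : Set G)), c' = ⟨c, hJC hc⟩ := ⟨_, rfl⟩
  have h3 := (h.over hcore).comm_R (s := s') (c := c') (J := J') (H8.mem_MMa hK)
    (by rw [hs']; exact Subtype.ext hs2)
    (fun k hk => by rw [hs']; exact Subtype.ext (hsK _ (mem_subgroupOf.1 hk)))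
    (fun k hk => by rw [hJ']; exact mem_subgroupOf.2 (hKJ (mem_subgroupOf.1 hk)))
    hJ's hsub' hcard' (by rw [hJ', hc']; exact mem_subgroupOf.2 hc)
    (by rw [hc', Subgroup.orderOf_mk]; exact ho)
  refine ⟨?_, ?_⟩
  · refine cj_eq_of_mem fun k hk => ?_
    have h4 := mem_normalizer_of_cj h3.1 (k := ⟨k, h.le hK hk⟩) (mem_subgroupOf.2 hk)
    rw [hc'] at h4
    exact mem_subgroupOf.1 h4
  · rintro _ ⟨r, hr, rfl⟩
    have h4 := h3.2 r hr
    rw [hc'] at h4
    exact congrArg Subtype.val h4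

/-- **(ii)** `P = K R` -/
theorem H8.exists_mul (h : H8 Om) (hK : K ∈ Om) (hcore : oddCore ↥(centralizer ({zz K} : Set G)) = ⊥)
    (hc : CK K c) {p : G} (hp : p ∈ centralizer ({zz K} : Set G))
    (hp' : (⟨p, hp⟩ : ↥(centralizer ({zz K} : Set G))) ∈ pCore 2 ↥(centralizer ({zz K} : Set G))) :
    ∃ k ∈ K, ∃ r ∈ CP (zz K) K, p = k * r := by
  obtain ⟨x, hx⟩ := (h.over hcore).q3 _ (H8.mem_MMa hK)
  obtain ⟨k, hk, r, hr, e⟩ := (h.cc hK hc).exists_mul (h.over hcore) (H8.mem_MMa hK) hx hp'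
  exact ⟨k, mem_subgroupOf.1 hk, r, mem_map.2 ⟨r, hr, rfl⟩, congrArg Subtype.val e⟩

/-- **THE PRINCIPLE**: `SL(2,3)` over `K` -/
theorem H8.exists_sl (h : H8 Om) (hK : K ∈ Om) (hcore : oddCore ↥(centralizer ({zz K} : Set G)) = ⊥) (hc : CK K c)
    (hin : ∀ L : Subgroup ↥(centralizer ({zz K} : Set G)), IsComponent L → ∃ l ∈ L, ∀ x ∈ L,
      c * x * c⁻¹ = (l : G) * x * (l : G)⁻¹) :
    ∃ J : Subgroup G, K ≤ J ∧ J ≤ centralizer {zz K} ∧ (J.subgroupOf (centralizer {zz K})).IsSubnormal ∧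
      Nonempty (J ≃* Matrix.SpecialLinearGroup (Fin 2) (ZMod 3)) := by
  obtain ⟨J, hKJ, hJs, ⟨e⟩⟩ := (h.over hcore).principle (H8.mem_MMa hK) (h.cc hK hc) (fun L hL => by
    obtain ⟨l, hl, h1⟩ := hin L hL
    exact ⟨l, hl, fun x hx => Subtype.ext (h1 x hx)⟩)
  refine ⟨J.map (centralizer {zz K}).subtype, ?_, map_subtype_le _, ?_, ?_⟩
  · intro k hk
    exact ⟨⟨k, h.le hK hk⟩, hKJ (mem_subgroupOf.2 hk), rfl⟩
  · rw [subgroupOf, comap_map_eq_self_of_injective (centralizer ({zz K} : Set G)).subtype_injective]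
    exact hJs
  · exact ⟨(J.equivMapOfInjective _ (centralizer ({zz K} : Set G)).subtype_injective).symm.trans e⟩

/-- `SL(2,3)` has no odd core -/
theorem oddCore_sl {J : Subgroup G} (e : J ≃* Matrix.SpecialLinearGroup (Fin 2) (ZMod 3)) : oddCore J = ⊥ := by
  have h1 := Lib.Cores.map_equiv_pPrimeCore e.symm 2
  rw [S1303.result.2.1, Subgroup.map_bot] at h1
  exact h1.symm

/-- **THE PRINCIPLE**, in the language of the frame -/
theorem H8.three (h : H8 Om) (hK : K ∈ Om) (hcore : oddCore ↥(centralizer ({zz K} : Set G)) = ⊥) (hc : CK K c)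
    (hin : ∀ L : Subgroup ↥(centralizer ({zz K} : Set G)), IsComponent L → ∃ l ∈ L, ∀ x ∈ L,
      c * x * c⁻¹ = (l : G) * x * (l : G)⁻¹) : IndDefs.Three K := by
  obtain ⟨J, hKJ, hJC, hJs, ⟨e⟩⟩ := h.exists_sl hK hcore hc hin
  refine ⟨J, hJC, hKJ, hJs, ?_⟩
  have h1 := oddCore_sl e
  exact ⟨(QuotientGroup.quotientMulEquivOfEq h1).trans ((QuotientGroup.quotientBot).trans e)⟩

end

end Cfsg.Agent.Cit.Nil.Three
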