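import Cfsg.Agent.Cit.Nil.Three.Inst

/-!
# S1309, THREE PROPAGATION: from THREE in `C(s)` to an odd element `c` with `CK K c`

`s` any involution, `K₁ ≤ C(s)` a member with THREE in `C(s)`.

* `H8.exists_J` : the group `J ≤ C(z_K) ∩ C(s)`;
* `exists_rot_of_sl` : an odd element of `J` not centralising `K`;
* **`H8.exists_ck`** : `CK K c`.
-/

set_option autoImplicit false
set_option linter.style.haveILetI false
set_option linter.unusedSectionVars false

namespace Cfsg.Agent.Cit.Nil.Three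

open Subgroup Cfsg Cit RTwo IndDefs

variable {G : Type*} [Group G] [Finite G] {Om : Set (Subgroup G)} {s : G}

/-- the data, without the 2-group `T` -/
theorem H8.exists_J (h : H8 Om) {K₁ : Subgroup ↥(centralizer ({s} : Set G))}
    (hK₁ : K₁ ∈ restr Om (centralizer {s})) (h3 : IndDefs.Three K₁) :
    ∃ J : Subgroup G, K₁.map (centralizer ({s} : Set G)).subtype ≤ J ∧
      J ≤ centralizer {zz (K₁.map (centralizer ({s} : Set G)).subtype)} ⊓ centralizer {s} ∧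
      (J.subgroupOf (centralizer {zz (K₁.map (centralizer ({s} : Set G)).subtype)} ⊓ centralizer {s})).IsSubnormal ∧
      Nonempty ((↥J ⧸ oddCore ↥J) ≃* Matrix.SpecialLinearGroup (Fin 2) (ZMod 3)) := by
  obtain ⟨J₁, hJz, hKJ, hsub, ⟨e⟩⟩ := h3
  have hzz : ((zz K₁ : ↥(centralizer ({s} : Set G))) : G) = zz (K₁.map (centralizer ({s} : Set G)).subtype) :=
    zz_map h.hyp hK₁
  refine ⟨J₁.map (centralizer ({s} : Set G)).subtype, map_mono hKJ, ?_, ?_, ?_⟩
  · refine le_inf ?_ (map_subtype_le _)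
    rintro _ ⟨y, hy, rfl⟩
    rw [mem_centralizer_singleton_iff, ← hzz]
    exact congrArg Subtype.val (mem_centralizer_singleton_iff.1 (hJz hy))
  · have hmem : ∀ y : ↥(centralizer ({zz (K₁.map (centralizer ({s} : Set G)).subtype)} : Set G) ⊓ centralizer {s} :
        Subgroup G), (⟨(y : G), y.2.2⟩ : ↥(centralizer ({s} : Set G))) ∈ centralizer {zz K₁} := by
      intro y
      refine mem_centralizer_singleton_iff.2 (Subtype.ext ?_)
      change (y : G) * (zz K₁ : ↥(centralizer ({s} : Set G))) = (zz K₁ : ↥(centralizer ({s} : Set G))) * (y : G)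
      rw [hzz]
      exact mem_centralizer_singleton_iff.1 y.2.1
    obtain ⟨f, hf⟩ : ∃ f : ↥(centralizer ({zz (K₁.map (centralizer ({s} : Set G)).subtype)} : Set G) ⊓
        centralizer {s} : Subgroup G) →* ↥(centralizer ({zz K₁} : Set ↥(centralizer ({s} : Set G)))),
        ∀ y, ((f y : ↥(centralizer ({s} : Set G))) : G) = y :=
      ⟨{ toFun := fun y => ⟨⟨(y : G), y.2.2⟩, hmem y⟩, map_one' := rfl, map_mul' := fun _ _ => rfl }, fun _ => rfl⟩
    have h1 := hsub.comap f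
    have h2 : (J₁.subgroupOf (centralizer {zz K₁})).comap f = (J₁.map (centralizer ({s} : Set G)).subtype).subgroupOf
        (centralizer {zz (K₁.map (centralizer ({s} : Set G)).subtype)} ⊓ centralizer {s}) := by
      ext y
      rw [mem_comap, mem_subgroupOf, mem_subgroupOf]
      constructor
      · intro hy
        exact ⟨_, hy, hf y⟩
      · rintro ⟨x, hx, hxy⟩
        have h5 : x = (f y : ↥(centralizer ({s} : Set G))) := Subtype.ext (hxy.trans (hf y).symm)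
        rwa [← h5]
    rwa [h2] at h1
  · have e1 : ↥J₁ ≃* ↥(J₁.map (centralizer ({s} : Set G)).subtype) :=
      J₁.equivMapOfInjective _ (centralizer ({s} : Set G)).subtype_injective
    exact ⟨(QuotientGroup.congr (oddCore ↥J₁) (oddCore _) e1 (Lib.Cores.map_equiv_pPrimeCore e1 2)).symm.trans e⟩

/-- `(1 1; 0 1)` -/
def tau3 : Matrix.SpecialLinearGroup (Fin 2) (ZMod 3) := ⟨!![1, 1; 0, 1], by decide⟩

/-- `(1 1; 0 1)` commutes with no element of order 4 of `SL(2,3)` -/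
theorem sl3_key : ∀ κ : Matrix.SpecialLinearGroup (Fin 2) (ZMod 3), κ * κ ≠ 1 → κ * κ * (κ * κ) = 1 →
    tau3 * κ ≠ κ * tau3 := by decide

theorem sl3_cube : tau3 ^ 3 = 1 := by decide

/-- `16 ∤ |J|` -/
theorem not_16 {J : Subgroup G} (e : (↥J ⧸ oddCore ↥J) ≃* Matrix.SpecialLinearGroup (Fin 2) (ZMod 3)) :
    ¬ 16 ∣ Nat.card J := by
  intro h16
  have h1 := Subgroup.card_eq_card_quotient_mul_card_subgroup (oddCore ↥J)
  rw [Nat.card_congr e.toEquiv, Transfer.SL23Recog.card_sl23] at h1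
  have h4 : (Nat.card ↥(oddCore ↥J)).Coprime 2 := Lib.Cores.pPrimeCore_coprime 2
  have h5 : ¬ 2 ∣ Nat.card ↥(oddCore ↥J) := (Nat.Prime.coprime_iff_not_dvd Nat.prime_two).1 h4.symm
  rw [h1] at h16
  omega

/-- an odd element of `J` not centralising `K` -/
theorem exists_rot_of_sl {J K : Subgroup G} {a : G} {x : Fin 3 → G} (hx : Q3 K a x) (hKJ : K ≤ J)
    (e : (↥J ⧸ oddCore ↥J) ≃* Matrix.SpecialLinearGroup (Fin 2) (ZMod 3)) :
    ∃ c ∈ J, Odd (orderOf c) ∧ ∃ k ∈ K, c * k ≠ k * c := by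
  obtain ⟨p, hp, hker⟩ : ∃ p : ↥J →* Matrix.SpecialLinearGroup (Fin 2) (ZMod 3), Function.Surjective p ∧
      ∀ y, p y = 1 → y ∈ oddCore ↥J := by
    refine ⟨e.toMonoidHom.comp (QuotientGroup.mk' (oddCore ↥J)), ?_, fun y hy => ?_⟩
    · exact e.surjective.comp (QuotientGroup.mk'_surjective _)
    · have h1 : e (QuotientGroup.mk' (oddCore ↥J) y) = 1 := hy
      rw [map_eq_one_iff e e.injective] at h1
      exact (QuotientGroup.eq_one_iff y).1 h1
  obtain ⟨j, hj⟩ := hp tau3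
  obtain ⟨n, m, hm, hnm⟩ : ∃ n m : ℕ, Odd m ∧ orderOf j = 2 ^ n * m := by
    obtain ⟨n, m, hm, hnm⟩ := Nat.exists_eq_two_pow_mul_odd (orderOf_pos j).ne'
    exact ⟨n, m, hm, hnm⟩
  have hodd : Odd (orderOf (j ^ 2 ^ n)) := by
    have h1 : (j ^ 2 ^ n) ^ m = 1 := by rw [← pow_mul, ← hnm, pow_orderOf_eq_one]
    exact hm.of_dvd_nat (orderOf_dvd_of_pow_eq_one h1)
  refine ⟨((j ^ 2 ^ n : ↥J) : G), (j ^ 2 ^ n).2, by rwa [orderOf_coe], x 0, hx.mem 0, ?_⟩
  intro hcom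
  obtain ⟨κ, hκ⟩ : ∃ κ : ↥J, κ = ⟨x 0, hKJ (hx.mem 0)⟩ := ⟨_, rfl⟩
  have h1 : (j ^ 2 ^ n) * κ = κ * (j ^ 2 ^ n) := by rw [hκ]; exact Subtype.ext hcom
  have h2 : Commute ((p j) ^ 2 ^ n) (p κ) := by
    have := congrArg p h1
    rw [map_mul, map_mul, map_pow] at this
    exact this
  have ho : Odd (orderOf (p j)) := by
    have h3 : orderOf (p j) ∣ 3 := orderOf_dvd_of_pow_eq_one (by rw [hj]; exact sl3_cube)
    exact Odd.of_dvd_nat (by decide) h3
  have h3 := comm_of_pow_two ho h2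
  have hκκ : κ * κ = ⟨a, hKJ hx.zmem⟩ := by rw [hκ]; exact Subtype.ext (hx.sq 0)
  refine sl3_key (p κ) ?_ ?_ (by rw [← hj]; exact h3.eq)
  · intro h4
    rw [← map_mul, hκκ] at h4
    have h5 := hker _ h4
    have h6 : (Nat.card ↥(oddCore ↥J)).Coprime 2 := Lib.Cores.pPrimeCore_coprime 2
    have h7 : orderOf (⟨a, hKJ hx.zmem⟩ : ↥J) = 2 := by
      rw [Subgroup.orderOf_mk]
      exact orderOf_eq_prime (by rw [pow_two]; exact hx.z2) hx.z1
    have h8 : orderOf (⟨⟨a, hKJ hx.zmem⟩, h5⟩ : ↥(oddCore ↥J)) = 2 := by rw [Subgroup.orderOf_mk]; exact h7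
    have h9 : 2 ∣ Nat.card ↥(oddCore ↥J) := by rw [← h8]; exact orderOf_dvd_natCard _
    exact (Nat.Prime.coprime_iff_not_dvd Nat.prime_two).1 h6.symm h9
  · have h4 : κ * κ * (κ * κ) = 1 := by rw [hκκ]; exact Subtype.ext hx.z2
    rw [← map_mul, ← map_mul, h4, map_one]

/-- **`CK K c`** -/
theorem H8.exists_ck (h : H8 Om) (hs2 : s * s = 1) {K₁ : Subgroup ↥(centralizer ({s} : Set G))}
    (hK₁ : K₁ ∈ restr Om (centralizer {s})) (h3 : IndDefs.Three K₁)
    (hcore : oddCore ↥(centralizer ({zz (K₁.map (centralizer ({s} : Set G)).subtype)} : Set G)) = ⊥) :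
    ∃ c, CK (K₁.map (centralizer ({s} : Set G)).subtype) c ∧ c * s = s * c := by
  obtain ⟨J, hKJ, hJ, hsub, ⟨e⟩⟩ := h.exists_J hK₁ h3
  have hK : K₁.map (centralizer ({s} : Set G)).subtype ∈ Om := hK₁
  obtain ⟨x, hx⟩ := h.exists_q3 hK
  obtain ⟨c, hcJ, ho, k, hk, hne⟩ := exists_rot_of_sl hx hKJ e
  have hsK : ∀ k ∈ K₁.map (centralizer ({s} : Set G)).subtype, s * k = k * s := fun k hk =>
    (mem_centralizer_singleton_iff.1 (map_subtype_le _ hk)).symm
  obtain ⟨h1, h2⟩ := h.comm_R hK hcore hs2 hsK hKJ hJ hsub (not_16 e) hcJ ho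
  exact ⟨c, ⟨ho, h1, ⟨k, hk, hne⟩, h2⟩, mem_centralizer_singleton_iff.1 (hJ hcJ).2⟩

end Cfsg.Agent.Cit.Nil.Three
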