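import Cfsg.Agent.Cit.Nil.Three.Inst
import Cfsg.Agent.Cit.Nil.LO.TW
import Cfsg.Agent.Cit.QuoCen
import Cfsg.Agent.Lib.PComponents

/-!
# S1309, node (n2) THREE PROPAGATION: the choice of `c` (helper981 #17955, #19023)

In `H` (= `C(a)`, `a` central), `S` a Sylow 2-subgroup, `s ∈ T_S` an involution, `K` a member over `a`, `K ≤ J ≤ C(s)`
subnormal in `C(s)`, `J/O(J) ≃* SL(2,3)`:

* `exists_odd` : an element of odd order of `J` not trivial on `K`;
* `exists_choice` : `N`, `E`, `c` : `c` odd in `N`, `N/E = O(C(s)/E)`, `E` = product of the members over `a`,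
  `c` centralises `R = C_P(K)` and all members in `S` over involutions `≠ a`.
-/

set_option autoImplicit false
set_option linter.style.haveILetI false
set_option linter.unusedSectionVars false
set_option maxHeartbeats 400000

namespace Cfsg.Agent.Cit.Nil.Three

open Subgroup Cfsg Cit RTwo

variable {H : Type*} [Group H] [Finite H]

local notation "SL23" => Matrix.SpecialLinearGroup (Fin 2) (ZMod 3)

/-! ### `J` -/

theorem card_of_quo {J : Subgroup H} (e : (↥J ⧸ oddCore ↥J) ≃* SL23) : ∃ m, ¬ 2 ∣ m ∧ Nat.card J = 24 * m := by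
  refine ⟨Nat.card ↥(oddCore ↥J), ?_, ?_⟩
  · have h4 : (Nat.card ↥(oddCore ↥J)).Coprime 2 := Lib.Cores.pPrimeCore_coprime 2
    exact (Nat.Prime.coprime_iff_not_dvd Nat.prime_two).1 h4.symm
  · have h1 := Subgroup.card_eq_card_quotient_mul_card_subgroup (oddCore ↥J)
    rwa [Nat.card_congr e.toEquiv, Transfer.SL23Recog.card_sl23] at h1

theorem not_sixteen {J : Subgroup H} (e : (↥J ⧸ oddCore ↥J) ≃* SL23) : ¬ 16 ∣ Nat.card J := by
  obtain ⟨m, hm, h⟩ := card_of_quo e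
  rw [h]; omega

/-- elements of a 2-group which lie in a group of odd order -/
theorem eq_one_of_coprime' {P W : Subgroup H} (hP : IsPGroup 2 P) (hW : (Nat.card W).Coprime 2) {x : H} (hx : x ∈ P)
    (hxW : x ∈ W) : x = 1 := by
  obtain ⟨n, hn⟩ := hP ⟨x, hx⟩
  have hn' : x ^ 2 ^ n = 1 := congrArg Subtype.val hn
  have h1 : orderOf x ∣ Nat.card W := by
    rw [← Subgroup.orderOf_mk x hxW]
    exact orderOf_dvd_natCard _
  have h2 := Nat.dvd_gcd h1 (orderOf_dvd_of_pow_eq_one hn')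
  rw [Nat.Coprime.pow_right n hW, Nat.dvd_one, orderOf_eq_one_iff] at h2
  exact h2

/-- an element of odd order of `J` not trivial on `K` -/
theorem exists_odd {J K : Subgroup H} {a : H} {x : Fin 3 → H} (hx : Q3 K a x) (hKJ : K ≤ J)
    (e : (↥J ⧸ oddCore ↥J) ≃* SL23) : ∃ c ∈ J, Odd (orderOf c) ∧ ∃ k ∈ K, c * k ≠ k * c := by
  haveI : Fact (Nat.Prime 2) := ⟨Nat.prime_two⟩
  haveI : Fact (Nat.Prime 3) := ⟨Nat.prime_three⟩
  by_contra hcon
  push Not at hcon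
  obtain ⟨φ, hφ⟩ : ∃ φ : ↥J →* SL23, φ = e.toMonoidHom.comp (QuotientGroup.mk' (oddCore ↥J)) := ⟨_, rfl⟩
  have hφs : Function.Surjective φ := by
    rw [hφ]; exact e.surjective.comp (QuotientGroup.mk'_surjective _)
  have hφk : φ.ker = oddCore ↥J := by
    ext y
    rw [MonoidHom.mem_ker, hφ]
    constructor
    · intro h1
      have h2 : e (QuotientGroup.mk' (oddCore ↥J) y) = e 1 := by rw [map_one]; exact h1
      have h3 := e.injective h2
      exact (QuotientGroup.eq_one_iff _).1 h3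
    · intro h1
      have h2 : QuotientGroup.mk' (oddCore ↥J) y = 1 := (QuotientGroup.eq_one_iff _).2 h1
      show e (QuotientGroup.mk' (oddCore ↥J) y) = 1
      rw [h2, map_one]
  -- an element of order three
  obtain ⟨d, hd⟩ := exists_prime_orderOf_dvd_card' (G := SL23) 3 (by
    rw [Transfer.SL23Recog.card_sl23]; norm_num)
  obtain ⟨j, hj⟩ := hφs d
  obtain ⟨n, m, hm, hnm⟩ := Nat.exists_eq_two_pow_mul_odd (orderOf_pos j).ne'
  obtain ⟨c, hc⟩ : ∃ c, c = j ^ 2 ^ n := ⟨_, rfl⟩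
  have hco : Odd (orderOf c) := by
    have h1 : c ^ m = 1 := by rw [hc, ← pow_mul, ← hnm, pow_orderOf_eq_one]
    exact hm.of_dvd_nat (orderOf_dvd_of_pow_eq_one h1)
  have hφc : orderOf (φ c) = 3 := by
    rw [hc, map_pow, hj, Nat.Coprime.orderOf_pow, hd]
    rw [hd]
    exact Nat.Coprime.pow_right n (by norm_num)
  -- it commutes with `φ K`
  have hcK : ∀ k ∈ K, (c : H) * k = k * c := hcon c c.2 (by rw [Subgroup.orderOf_coe]; exact hco)
  obtain ⟨Q, hQ⟩ : ∃ Q, Q = (K.subgroupOf J).map φ := ⟨_, rfl⟩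
  have hQc : ∀ y ∈ Q, φ c * y = y * φ c := by
    rw [hQ]
    rintro _ ⟨k, hk, rfl⟩
    rw [← map_mul, ← map_mul]
    congr 1
    exact Subtype.ext (hcK k (mem_subgroupOf.1 hk))
  have hQ8 : Nat.card Q = 8 := by
    have h1 : (K.subgroupOf J) ⊓ φ.ker = ⊥ := by
      rw [hφk, eq_bot_iff]
      rintro y ⟨hy, hyk⟩
      have h2 : (Nat.card ↥(oddCore ↥J)).Coprime 2 := Lib.Cores.pPrimeCore_coprime 2
      have h3 : IsPGroup 2 (K.subgroupOf J) := by
        refine IsPGroup.of_card (n := 3) ?_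
        rw [Nat.card_congr (subgroupOfEquivOfLe hKJ).toEquiv, card_q3 hx]; norm_num
      exact mem_bot.2 (eq_one_of_coprime' h3 h2 hy hyk)
    rw [hQ, ← Nat.card_congr (QuoCen.equivMap h1).toEquiv, Nat.card_congr (subgroupOfEquivOfLe hKJ).toEquiv, card_q3 hx]
  obtain ⟨Z, hZ⟩ : ∃ Z, Z = zpowers (φ c) := ⟨_, rfl⟩
  have hZ3 : Nat.card Z = 3 := by rw [hZ, Nat.card_zpowers, hφc]
  have htop : Q ⊔ Z = ⊤ := by
    refine Subgroup.eq_top_of_card_eq _ ?_
    rw [Transfer.SL23Recog.card_sl23]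
    refine Nat.dvd_antisymm ?_ ?_
    · rw [← Transfer.SL23Recog.card_sl23]; exact card_subgroup_dvd_card _
    · rw [show (24 : ℕ) = 8 * 3 from rfl]
      refine Nat.Coprime.mul_dvd_of_dvd_of_dvd (by norm_num) ?_ ?_
      · have h3 := card_dvd_of_le (le_sup_left : Q ≤ Q ⊔ Z)
        rwa [hQ8] at h3
      · have h3 := card_dvd_of_le (le_sup_right : Z ≤ Q ⊔ Z)
        rwa [hZ3] at h3
  have hZn : Z.Normal := by
    rw [← normalizer_eq_top_iff, eq_top_iff, ← htop, sup_le_iff]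
    refine ⟨?_, le_normalizer⟩
    refine le_trans ?_ (centralizer_le_normalizer _)
    intro y hy
    rw [hZ, mem_centralizer_iff]
    rintro _ ⟨i, rfl⟩
    have : Commute (φ c) y := hQc y hy
    exact (this.zpow_left i).eq
  have h1 : Z ≤ pPrimeCore 2 SL23 := Lib.Cores.le_pPrimeCore hZn (by rw [hZ3]; norm_num)
  rw [S1303.result.2.1, le_bot_iff] at h1
  rw [h1] at hZ3
  simp at hZ3

/-! ### the choice -/

/-- a central 2-subgroup of odd index: the elements of odd order form a normal complement -/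
theorem exists_compl_odd {D Z : Subgroup H} (hZD : Z ≤ D) (hZ : ∀ z ∈ Z, ∀ d ∈ D, d * z = z * d) (h2 : IsPGroup 2 Z)
    (ho : ¬ 2 ∣ Z.relIndex D) : ∃ F : Subgroup H, F ≤ D ∧ (∀ y, y ∈ F ↔ y ∈ D ∧ Odd (orderOf y)) ∧
      (∀ d ∈ D, ∃ f ∈ F, ∃ z ∈ Z, d = f * z) ∧ Odd (Nat.card F) := by
  haveI : Fact (Nat.Prime 2) := ⟨Nat.prime_two⟩
  haveI hZn : (Z.subgroupOf D).Normal := ⟨fun z hz g => by
    rw [mem_subgroupOf] at hz ⊢
    show (g : H) * z * (g : H)⁻¹ ∈ Z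
    rw [hZ z hz g g.2, mul_inv_cancel_right]; exact hz⟩
  have hcop : Nat.Coprime (Nat.card (Z.subgroupOf D)) (Z.subgroupOf D).index := by
    rw [Nat.card_congr (subgroupOfEquivOfLe hZD).toEquiv]
    obtain ⟨n, hn⟩ := IsPGroup.iff_card.1 h2
    rw [hn]
    exact Nat.Coprime.pow_left n ((Nat.Prime.coprime_iff_not_dvd Nat.prime_two).2 ho)
  obtain ⟨N, hN⟩ := exists_left_complement'_of_coprime hcop
  obtain ⟨F, hF⟩ : ∃ F : Subgroup H, F = N.map D.subtype := ⟨_, rfl⟩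
  have hFD : F ≤ D := by rw [hF]; exact map_subtype_le _
  have hmul : ∀ d ∈ D, ∃ f ∈ F, ∃ z ∈ Z, d = f * z := by
    intro d hd
    obtain ⟨⟨n, z⟩, h1⟩ := hN.surjective ⟨d, hd⟩
    have h2 : ((n : D) : H) * ((z : D) : H) = d := congrArg Subtype.val h1
    exact ⟨n, by rw [hF]; exact ⟨n, n.2, rfl⟩, z, mem_subgroupOf.1 z.2, h2.symm⟩
  have hcardF : Odd (Nat.card F) := by
    have h1 : Nat.card F = (Z.subgroupOf D).index := by
      rw [hF, card_map_of_injective D.subtype_injective]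
      exact hN.index_eq_card.symm
    rw [h1, Nat.not_even_iff_odd.symm, even_iff_two_dvd]
    exact ho
  refine ⟨F, hFD, ?_, hmul, hcardF⟩
  intro y
  constructor
  · intro hy
    refine ⟨hFD hy, hcardF.of_dvd_nat ?_⟩
    rw [← Subgroup.orderOf_mk y hy]
    exact orderOf_dvd_natCard _
  · rintro ⟨hyD, hyo⟩
    obtain ⟨f, hf, z, hz, rfl⟩ := hmul y hyD
    have hc : Commute f z := hZ z hz f (hFD hf)
    have hfo : Odd (orderOf f) := hcardF.of_dvd_nat (by
      rw [← Subgroup.orderOf_mk f hf]; exact orderOf_dvd_natCard _)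
    obtain ⟨n, hn⟩ := h2 ⟨z, hz⟩
    have hn' : z ^ 2 ^ n = 1 := congrArg Subtype.val hn
    -- `z = f⁻¹ (f z)` has odd order
    have hzo : Odd (orderOf z) := by
      have e : z = f⁻¹ * (f * z) := by group
      have hc2 : Commute f⁻¹ (f * z) := ((Commute.refl f).mul_right hc).inv_left
      rw [e]
      refine (hfo.mul hyo).of_dvd_nat ?_
      have h3 := hc2.orderOf_mul_dvd_mul_orderOf
      rwa [orderOf_inv] at h3
    have h4 : Nat.Coprime (orderOf z) (2 ^ n) := Nat.Coprime.pow_right _ (Nat.coprime_two_right.2 hzo)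
    have h5 : z = 1 :=
      orderOf_eq_one_iff.1 (Nat.eq_one_of_dvd_coprimes h4 dvd_rfl (orderOf_dvd_of_pow_eq_one hn'))
    rw [h5, mul_one]; exact hf

/-- a 2-group acting on a coset of a group of odd order has a fixed point -/
theorem exists_fixed {U F : Subgroup H} {c : H} (hU : IsPGroup 2 U) (hF : Odd (Nat.card F))
    (hUF : ∀ u ∈ U, ∀ f ∈ F, u * f * u⁻¹ ∈ F) (hcF : ∀ u ∈ U, c⁻¹ * (u * c * u⁻¹) ∈ F) :
    ∃ f ∈ F, ∀ u ∈ U, u * (c * f) = (c * f) * u := by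
  haveI : Fact (Nat.Prime 2) := ⟨Nat.prime_two⟩
  let X : Set H := {y | c⁻¹ * y ∈ F}
  have hX : ∀ u ∈ U, ∀ y ∈ X, u * y * u⁻¹ ∈ X := by
    intro u hu y hy
    show c⁻¹ * (u * y * u⁻¹) ∈ F
    have e : c⁻¹ * (u * y * u⁻¹) = (c⁻¹ * (u * c * u⁻¹)) * (u * (c⁻¹ * y) * u⁻¹) := by group
    rw [e]
    exact mul_mem (hcF u hu) (hUF u hu _ hy)
  letI : MulAction U X :=
    { smul := fun u y => ⟨(u : H) * y * (u : H)⁻¹, hX u u.2 y y.2⟩
      one_smul := fun y => Subtype.ext (by show (1 : H) * y * (1 : H)⁻¹ = y; group)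
      mul_smul := fun u v y => Subtype.ext (by
        show ((u : H) * v) * y * ((u : H) * v)⁻¹ = (u : H) * ((v : H) * y * (v : H)⁻¹) * (u : H)⁻¹; group) }
  have hcard : Nat.card X = Nat.card F := by
    refine Nat.card_congr ⟨fun y => ⟨c⁻¹ * y, y.2⟩, fun f => ⟨c * f, by
      show c⁻¹ * (c * (f : H)) ∈ F
      rw [inv_mul_cancel_left]; exact f.2⟩, fun y => Subtype.ext (by simp), fun f => Subtype.ext (by simp)⟩
  haveI : Finite X := Subtype.finite
  have h1 := hU.card_modEq_card_fixedPoints X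
  rw [hcard] at h1
  have h2 : Nonempty (MulAction.fixedPoints U X) := by
    by_contra hne
    rw [not_nonempty_iff] at hne
    rw [Nat.card_eq_zero.2 (Or.inl hne)] at h1
    have h3 : 2 ∣ Nat.card F := (Nat.modEq_zero_iff_dvd).1 h1
    exact (Nat.not_even_iff_odd.2 hF) (even_iff_two_dvd.2 h3)
  obtain ⟨⟨y, hy⟩, hfix⟩ := h2
  refine ⟨c⁻¹ * y, hy, fun u hu => ?_⟩
  have h3 := congrArg Subtype.val (hfix ⟨u, hu⟩)
  have h4 : u * y * u⁻¹ = y := h3
  rw [mul_inv_cancel_left, ← mul_inv_eq_iff_eq_mul]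
  exact h4

theorem odd_mul {F : Subgroup H} {c f : H} (hF : Odd (Nat.card F)) (hc : Odd (orderOf c)) (hf : f ∈ F)
    (hn : ∀ g ∈ F, c * g * c⁻¹ ∈ F) : Odd (orderOf (c * f)) := by
  have key : ∀ i : ℕ, (c * f) ^ i * (c ^ i)⁻¹ ∈ F := by
    intro i
    induction i with
    | zero => simp
    | succ i ih =>
      have e : (c * f) ^ (i + 1) * (c ^ (i + 1))⁻¹ = c * (f * ((c * f) ^ i * (c ^ i)⁻¹)) * c⁻¹ := by
        rw [pow_succ' (c * f), pow_succ c]
        group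
      rw [e]
      exact hn _ (mul_mem hf ih)
  have h1 := key (orderOf c)
  rw [pow_orderOf_eq_one, inv_one, mul_one] at h1
  have h2 : ((c * f) ^ orderOf c) ^ Nat.card F = 1 := by
    have := pow_card_eq_one' (x := (⟨_, h1⟩ : F))
    exact congrArg Subtype.val this
  rw [← pow_mul] at h2
  exact (hc.mul hF).of_dvd_nat (orderOf_dvd_of_pow_eq_one h2)

theorem card_mul_relIndex_of_le {G : Type*} [Group G] {X Y : Subgroup G} (h : X ≤ Y) :
    Nat.card X * X.relIndex Y = Nat.card Y := by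
  have h1 := (X.subgroupOf Y).card_mul_index
  rwa [Nat.card_congr (subgroupOfEquivOfLe h).toEquiv] at h1

variable {Om : Set (Subgroup H)}

/-- the members over a central `a` -/
theorem over_of_central {a : H} (h : H8 Om) (core : oddCore H = ⊥) (ha : ∀ g : H, g * a = a * g) :
    Over (RG.Ov Om a) a where
  q3 := by
    rintro K ⟨hK, rfl⟩
    exact h.exists_q3 hK
  cen := ha
  conj := by
    rintro K ⟨hK, rfl⟩ g
    exact ⟨h.hyp.conj K hK g, by rw [h.hyp.zz_cj hK, ha g, mul_inv_cancel_right]⟩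
  comm := by
    rintro K ⟨hK, hz⟩ L ⟨hL, hz'⟩ hne
    exact h.comm hK hL (hz.trans hz'.symm) hne
  le := by
    rintro K ⟨hK, rfl⟩
    refine Cfsg.Agent.PLocal.SubnormalCore.le_pCore_of_isSubnormal ?_ (h.isPGroup hK)
    have h1 := h.hyp.sub K hK
    have h2 : centralizer ({zz K} : Set H) = ⊤ := by
      rw [eq_top_iff]
      intro g _
      exact mem_centralizer_singleton_iff.2 (ha g)
    exact IsSubnormal.trans (h.le hK) h1 (by rw [h2]; exact Subgroup.IsSubnormal.top)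
  core := core

/-- **the choice of `c`**, in `H = C(a)` -/
theorem exists_choice {a s : H} {K J : Subgroup H} {S : Sylow 2 H} (h : H8 Om) (core : oddCore H = ⊥)
    (ha : ∀ g : H, g * a = a * g) (hK : K ∈ Om) (hKa : zz K = a) (s2 : s * s = 1)
    (sT : s ∈ closure {z | ∃ K ∈ Om, K ≤ (S : Subgroup H) ∧ zz K = z}) (hKJ : K ≤ J) (hJs : J ≤ centralizer {s})
    (hsub : (J.subgroupOf (centralizer {s})).IsSubnormal) (e : (↥J ⧸ oddCore ↥J) ≃* SL23) :
    ∃ N c, LO.TW Om S N (RG.RR Om a) s c ∧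
      (∀ x ∈ pCore 2 H, (∀ y ∈ RG.RR Om a, x * y = y * x) → c * x = x * c) ∧ Cc K c := by
  haveI : Fact (Nat.Prime 2) := ⟨Nat.prime_two⟩
  have hO := over_of_central h core ha
  have hKo : K ∈ RG.Ov Om a := ⟨hK, hKa⟩
  have w : RG.WR Om := RG.WR.of_hyp h.hyp h.card
  have hS2 : IsPGroup 2 (S : Subgroup H) := S.isPGroup'
  have hPS : pCore 2 H ≤ (S : Subgroup H) := Lib.Cores.pCore_le_sylow S
  have hP2 : IsPGroup 2 (pCore 2 H) := Lib.Cores.pCore_isPGroup 2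
  obtain ⟨x, hx⟩ := hO.q3 K hKo
  -- members in `S` centralise `s`
  have hMs : ∀ M ∈ Om, M ≤ (S : Subgroup H) → ∀ m ∈ M, m * s = s * m := by
    intro M hM hMS m hm
    have h1 : closure {z | ∃ K ∈ Om, K ≤ (S : Subgroup H) ∧ zz K = z} ≤ centralizer {m} := by
      rw [closure_le]
      rintro z ⟨L, hL, hLS, rfl⟩
      rw [SetLike.mem_coe, mem_centralizer_singleton_iff]
      by_cases hne : M = L
      · rw [← hne]; exact (w.cen hM hm).symm
      · exact (w.pg M hM L hL _ hS2 hMS hLS hne m hm _ (w.zm hL)).symm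
    exact (mem_centralizer_singleton_iff.1 (h1 sT)).symm
  have hOvS : ∀ M ∈ RG.Ov Om a, M ≤ (S : Subgroup H) := fun M hM => (hO.le M hM).trans hPS
  have hsK : ∀ k ∈ K, s * k = k * s := fun k hk => (hMs K hK (hOvS K hKo) k hk).symm
  -- `Y = C(s)`
  obtain ⟨Y, hY⟩ : ∃ Y : Subgroup H, Y = centralizer {s} := ⟨_, rfl⟩
  -- `E`
  obtain ⟨E, hE⟩ : ∃ E : Subgroup H, E = RG.RR Om a := ⟨_, rfl⟩
  have hEP : E ≤ pCore 2 H := by rw [hE]; exact RG.SS_le fun M hM => hO.le M hM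
  have hEn : ∀ g : H, ∀ y ∈ E, g * y * g⁻¹ ∈ E := by
    intro g y hy
    rw [hE] at hy ⊢
    exact w.RR_cj' hy (ha g)
  haveI hEN : E.Normal := ⟨fun y hy g => hEn g y hy⟩
  have hEY : E ≤ Y := by
    rw [hE, hY]
    refine RG.SS_le fun M hM m hm => mem_centralizer_singleton_iff.2 (hMs M hM.1 (hOvS M hM) m hm)
  have hKE : K ≤ E := by rw [hE]; exact RG.WR.le_RR hKo
  -- `N`
  obtain ⟨EY, hEYd⟩ : ∃ EY : Subgroup ↥Y, EY = E.subgroupOf Y := ⟨_, rfl⟩
  haveI hEYn : EY.Normal := by rw [hEYd]; infer_instance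
  obtain ⟨π, hπ⟩ : ∃ π : ↥Y →* ↥Y ⧸ EY, π = QuotientGroup.mk' EY := ⟨_, rfl⟩
  have hπs : Function.Surjective π := by rw [hπ]; exact QuotientGroup.mk'_surjective _
  have hπk : π.ker = EY := by rw [hπ]; exact QuotientGroup.ker_mk' _
  obtain ⟨NY, hNY⟩ : ∃ NY : Subgroup ↥Y, NY = (oddCore (↥Y ⧸ EY)).comap π := ⟨_, rfl⟩
  have hNYn : NY.Normal := by rw [hNY]; infer_instance
  obtain ⟨N, hN⟩ : ∃ N : Subgroup H, N = NY.map Y.subtype := ⟨_, rfl⟩
  have mN : ∀ g, g ∈ N ↔ ∃ hg : g ∈ Y, π ⟨g, hg⟩ ∈ oddCore (↥Y ⧸ EY) := by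
    intro g
    rw [hN, hNY]
    constructor
    · rintro ⟨y, hy, rfl⟩
      exact ⟨y.2, hy⟩
    · rintro ⟨hg, hy⟩
      exact ⟨⟨g, hg⟩, hy, rfl⟩
  have hNYle : N ≤ Y := by rw [hN]; exact map_subtype_le _
  have hNconj : ∀ g ∈ Y, ∀ y ∈ N, g * y * g⁻¹ ∈ N := by
    intro g hg y hy
    rw [hN] at hy ⊢
    obtain ⟨y, hy, rfl⟩ := hy
    exact ⟨⟨g, hg⟩ * y * ⟨g, hg⟩⁻¹, hNYn.conj_mem y hy _, rfl⟩
  have hEN' : E ≤ N := by
    intro y hy
    refine (mN y).2 ⟨hEY hy, ?_⟩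
    have h1 : (⟨y, hEY hy⟩ : ↥Y) ∈ π.ker := by rw [hπk, hEYd]; exact mem_subgroupOf.2 hy
    rw [MonoidHom.mem_ker.1 h1]; exact one_mem _
  have hodd : ¬ 2 ∣ Nat.card ↥(oddCore (↥Y ⧸ EY)) := by
    have h4 : (Nat.card ↥(oddCore (↥Y ⧸ EY))).Coprime 2 := Lib.Cores.pPrimeCore_coprime 2
    exact (Nat.Prime.coprime_iff_not_dvd Nat.prime_two).1 h4.symm
  have hrel : E.relIndex N = Nat.card ↥(oddCore (↥Y ⧸ EY)) := by
    have h1 : E.relIndex N = EY.relIndex NY := by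
      have h2 : E.relIndex N = (EY.map Y.subtype).relIndex (NY.map Y.subtype) := by
        rw [hEYd, map_subgroupOf_eq_of_le hEY, hN]
      rw [h2, relIndex_map_map_of_injective _ _ Y.subtype_injective]
    have h2 : π.ker.relIndex NY = Nat.card ↥(oddCore (↥Y ⧸ EY)) := by
      rw [relIndex_ker, hNY, map_comap_eq_self_of_surjective hπs]
    rw [hπk] at h2
    rw [h1, h2]
  have hrelo : ¬ 2 ∣ E.relIndex N := by rw [hrel]; exact hodd
  -- `J ≤ N`
  have h16 := not_sixteen e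
  have hJN : J ≤ N := by
    have h1 : ((J.subgroupOf Y).map π).IsSubnormal := by
      have h2 : (J.subgroupOf Y).IsSubnormal := by rw [hY]; exact hsub
      exact h2.map hπs
    have h2 : (Nat.card ↥((J.subgroupOf Y).map π)).Coprime 2 := by
      rw [Nat.coprime_comm]
      refine (Nat.Prime.coprime_iff_not_dvd Nat.prime_two).2 fun h3 => h16 ?_
      rw [← relIndex_ker] at h3
      have hJY : J ≤ Y := by rw [hY]; exact hJs
      have h4 : π.ker.relIndex (J.subgroupOf Y) * Nat.card ↥(π.ker ⊓ J.subgroupOf Y : Subgroup ↥Y) =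
          Nat.card ↥(J.subgroupOf Y) := by
        rw [← inf_relIndex_right, mul_comm]
        exact card_mul_relIndex_of_le inf_le_right
      have h5 : 8 ∣ Nat.card ↥(π.ker ⊓ J.subgroupOf Y : Subgroup ↥Y) := by
        have hKY : K ≤ Y := hKJ.trans hJY
        have h6 : Nat.card ↥(K.subgroupOf Y) = 8 := by
          rw [Nat.card_congr (subgroupOfEquivOfLe hKY).toEquiv, h.card K hK]
        rw [← h6]
        refine card_dvd_of_le (le_inf ?_ (fun k hk => mem_subgroupOf.2 (hKJ (mem_subgroupOf.1 hk))))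
        rw [hπk, hEYd, hE]
        exact fun k hk => mem_subgroupOf.2 (RG.WR.le_RR hKo (mem_subgroupOf.1 hk))
      rw [Nat.card_congr (subgroupOfEquivOfLe hJY).toEquiv] at h4
      rw [← h4]
      exact Nat.mul_dvd_mul h3 h5
    have h3 := Lib.PComponents.le_pPrimeCore_of_isSubnormal h1 h2
    intro j hj
    have hjY : j ∈ Y := by rw [hY]; exact hJs hj
    exact (mN j).2 ⟨hjY, h3 ⟨⟨j, hjY⟩, mem_subgroupOf.2 hj, rfl⟩⟩
  -- `c₀`
  obtain ⟨c0, hc0J, hc0o, k0, hk0, hne0⟩ := exists_odd hx hKJ e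
  obtain ⟨hc0K, hc0R⟩ := hO.comm_R hKo s2 hsK hKJ hJs hsub h16 hc0J hc0o
  have hc0N := hJN hc0J
  -- `D`
  obtain ⟨D, hD⟩ : ∃ D : Subgroup H, D = N ⊓ (centralizer ((RR K : Subgroup H) : Set H) ⊓ centralizer (K : Set H)) :=
    ⟨_, rfl⟩
  have mD : ∀ d, d ∈ D ↔ d ∈ N ∧ (∀ r ∈ RR K, r * d = d * r) ∧ ∀ k ∈ K, k * d = d * k := by
    intro d
    rw [hD, mem_inf, mem_inf, mem_centralizer_iff, mem_centralizer_iff]
    rfl
  obtain ⟨F, hFD, mF, hFm, hFo⟩ : ∃ F : Subgroup H, F ≤ D ∧ (∀ y, y ∈ F ↔ y ∈ D ∧ Odd (orderOf y)) ∧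
      (∀ d ∈ D, ∃ f ∈ F, ∃ z ∈ E ⊓ D, d = f * z) ∧ Odd (Nat.card F) := by
    refine exists_compl_odd inf_le_right ?_ (hP2.to_le (inf_le_left.trans hEP)) ?_
    · rintro z ⟨hzE, hzD⟩ d hd
      have h1 := ((mD z).1 hzD).2.2
      exact (((mD d).1 hd).2.1 z (mem_RR.2 ⟨hEP hzE, h1⟩)).symm
    · rw [inf_relIndex_right]
      intro h1
      apply hrelo
      have hDN : D ≤ N := fun d hd => ((mD d).1 hd).1
      have h2 : E.relIndex (D ⊔ E) * (D ⊔ E).relIndex N = E.relIndex N :=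
        relIndex_mul_relIndex _ _ _ le_sup_right (sup_le hDN hEN')
      rw [relIndex_sup_right] at h2
      rw [← h2]
      exact Dvd.dvd.mul_right h1 _
  -- `c₀` normalises `F`
  have hc0D : ∀ d ∈ D, c0 * d * c0⁻¹ ∈ D := by
    intro d hd
    obtain ⟨h1, h2, h3⟩ := (mD d).1 hd
    refine (mD _).2 ⟨mul_mem (mul_mem hc0N h1) (inv_mem hc0N), fun r hr => ?_, fun k hk => ?_⟩
    · have h4 := hc0R r hr
      have h5 := h2 r hr
      calc r * (c0 * d * c0⁻¹) = (r * c0) * d * c0⁻¹ := by group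
        _ = c0 * (r * d) * c0⁻¹ := by rw [← h4]; group
        _ = c0 * d * (r * c0⁻¹) := by rw [h5]; group
        _ = c0 * d * c0⁻¹ * r := by
          have : r * c0⁻¹ = c0⁻¹ * r := by
            rw [eq_inv_mul_iff_mul_eq, ← mul_assoc, h4, mul_inv_cancel_right]
          rw [this]; group
    · have h4 : c0⁻¹ * k * c0 ∈ K := by rw [← mem_cj, hc0K]; exact hk
      have h5 := h3 _ h4
      calc k * (c0 * d * c0⁻¹) = c0 * ((c0⁻¹ * k * c0) * d) * c0⁻¹ := by group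
        _ = c0 * (d * (c0⁻¹ * k * c0)) * c0⁻¹ := by rw [h5]
        _ = _ := by group
  have hcj_order : ∀ u y : H, orderOf (u * y * u⁻¹) = orderOf y := fun u y => (MulAut.conj u).orderOf_eq y
  have hc0F : ∀ f ∈ F, c0 * f * c0⁻¹ ∈ F := by
    intro f hf
    obtain ⟨h1, h2⟩ := (mF f).1 hf
    exact (mF _).2 ⟨hc0D f h1, by rw [hcj_order]; exact h2⟩
  -- `U`
  obtain ⟨U, hU⟩ : ∃ U : Subgroup H, U = (S : Subgroup H) ⊓ (centralizer (K : Set H) ⊓ centralizer {s}) := ⟨_, rfl⟩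
  have mU : ∀ u, u ∈ U ↔ u ∈ (S : Subgroup H) ∧ (∀ k ∈ K, k * u = u * k) ∧ u * s = s * u := by
    intro u
    rw [hU, mem_inf, mem_inf, mem_centralizer_iff, mem_centralizer_singleton_iff]
    rfl
  have hU2 : IsPGroup 2 U := by rw [hU]; exact hS2.to_le inf_le_left
  have hUY : ∀ u ∈ U, u ∈ Y := by
    intro u hu
    rw [hY]; exact mem_centralizer_singleton_iff.2 ((mU u).1 hu).2.2
  have hUK : ∀ u ∈ U, cj u K = K := by
    intro u hu
    refine cj_eq_of_mem fun k hk => ?_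
    rw [← ((mU u).1 hu).2.1 k hk, mul_inv_cancel_right]; exact hk
  have hUR : ∀ u ∈ U, ∀ {y : H}, (∀ r ∈ RR K, r * y = y * r) → ∀ r ∈ RR K, r * (u * y * u⁻¹) = u * y * u⁻¹ * r := by
    intro u hu y hy r hr
    have h1 := conj_mem_RR (hUK _ (inv_mem hu)) hr
    rw [inv_inv] at h1
    have h2 := hy _ h1
    calc r * (u * y * u⁻¹) = u * ((u⁻¹ * r * u) * y) * u⁻¹ := by group
      _ = u * (y * (u⁻¹ * r * u)) * u⁻¹ := by rw [h2]
      _ = _ := by group
  have hUD : ∀ u ∈ U, ∀ d ∈ D, u * d * u⁻¹ ∈ D := by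
    intro u hu d hd
    obtain ⟨h1, h2, h3⟩ := (mD d).1 hd
    refine (mD _).2 ⟨hNconj u (hUY u hu) d h1, hUR u hu h2, fun k hk => ?_⟩
    have h4 := ((mU u).1 hu).2.1 k hk
    have h4' : k * u⁻¹ = u⁻¹ * k := by
      rw [eq_inv_mul_iff_mul_eq, ← mul_assoc, ← h4, mul_inv_cancel_right]
    calc k * (u * d * u⁻¹) = (k * u) * d * u⁻¹ := by group
      _ = u * (k * d) * u⁻¹ := by rw [h4]; group
      _ = u * d * (k * u⁻¹) := by rw [h3 k hk]; group
      _ = _ := by rw [h4']; group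
  have hUF : ∀ u ∈ U, ∀ f ∈ F, u * f * u⁻¹ ∈ F := by
    intro u hu f hf
    obtain ⟨h1, h2⟩ := (mF f).1 hf
    exact (mF _).2 ⟨hUD u hu f h1, by rw [hcj_order]; exact h2⟩
  have hc0R' : ∀ r ∈ RR K, r * c0 = c0 * r := fun r hr => (hc0R r hr).symm
  have hUc : ∀ u ∈ U, c0⁻¹ * (u * c0 * u⁻¹) ∈ F := by
    intro u hu
    obtain ⟨-, huK, -⟩ := (mU u).1 hu
    have h1 : c0⁻¹ * (u * c0 * u⁻¹) ∈ D := by
      refine (mD _).2 ⟨mul_mem (inv_mem hc0N) (hNconj u (hUY u hu) c0 hc0N), fun r hr => ?_, fun k hk => ?_⟩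
      · have h2 := hUR u hu hc0R' r hr
        have h3 : r * c0⁻¹ = c0⁻¹ * r := by
          rw [eq_inv_mul_iff_mul_eq, ← mul_assoc, hc0R r hr, mul_inv_cancel_right]
        rw [← mul_assoc, h3, mul_assoc, h2]
        group
      · have h2 : c0 * k * c0⁻¹ ∈ K := mem_normalizer_of_cj hc0K hk
        have h3 := huK _ h2
        have h4 := huK _ hk
        have h4' : k * u⁻¹ = u⁻¹ * k := by
          rw [eq_inv_mul_iff_mul_eq, ← mul_assoc, ← h4, mul_inv_cancel_right]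
        calc k * (c0⁻¹ * (u * c0 * u⁻¹)) = c0⁻¹ * ((c0 * k * c0⁻¹) * u) * c0 * u⁻¹ := by group
          _ = c0⁻¹ * (u * (c0 * k * c0⁻¹)) * c0 * u⁻¹ := by rw [h3]
          _ = c0⁻¹ * u * c0 * (k * u⁻¹) := by group
          _ = c0⁻¹ * (u * c0 * u⁻¹) * k := by rw [h4']; group
    obtain ⟨f, hf, z, ⟨hzE, hzD⟩, hfz⟩ := hFm _ h1
    -- `z = 1`
    have hzR : z ∈ RR K := mem_RR.2 ⟨hEP hzE, ((mD z).1 hzD).2.2⟩
    have hzf : z * f = f * z := ((mD f).1 (hFD hf)).2.1 z hzR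
    have hwz : Commute (c0 * f) z := by
      show c0 * f * z = z * (c0 * f)
      rw [mul_assoc, ← hzf, ← mul_assoc, hc0R z hzR, mul_assoc]
    have hwo : Odd (orderOf (c0 * f)) := odd_mul hFo hc0o hf hc0F
    have hvo : Odd (orderOf (c0 * f * z)) := by
      have e' : c0 * f * z = u * c0 * u⁻¹ := by rw [mul_assoc, ← hfz]; group
      rw [e', hcj_order]; exact hc0o
    have hzo : Odd (orderOf z) := by
      have e' : z = (c0 * f)⁻¹ * (c0 * f * z) := by group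
      have hc2 : Commute (c0 * f)⁻¹ (c0 * f * z) := ((Commute.refl (c0 * f)).mul_right hwz).inv_left
      rw [e']
      refine (hwo.mul hvo).of_dvd_nat ?_
      have h3 := hc2.orderOf_mul_dvd_mul_orderOf
      rwa [orderOf_inv] at h3
    obtain ⟨n, hn⟩ := pow_two_of_mem (hEP hzE)
    have h4 : Nat.Coprime (orderOf z) (2 ^ n) := Nat.Coprime.pow_right _ (Nat.coprime_two_right.2 hzo)
    have h5 : z = 1 :=
      orderOf_eq_one_iff.1 (Nat.eq_one_of_dvd_coprimes h4 dvd_rfl (orderOf_dvd_of_pow_eq_one hn))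
    rw [hfz, h5, mul_one]; exact hf
  obtain ⟨f, hf, hfix⟩ := exists_fixed hU2 hFo hUF hUc
  obtain ⟨hfN, hfR, hfK⟩ := (mD f).1 (hFD hf)
  have hco : Odd (orderOf (c0 * f)) := odd_mul hFo hc0o hf hc0F
  have hcR : ∀ r ∈ RR K, c0 * f * r = r * (c0 * f) := by
    intro r hr
    rw [mul_assoc, ← hfR r hr, ← mul_assoc, hc0R r hr, mul_assoc]
  rw [← hE]
  refine ⟨N, c0 * f, { hyp := h.hyp, card := h.card, core := core, s2 := s2, sT := sT, odd := hco, cN := ?_, Ns := ?_, nN := ?_, nE := hEN, EN := hEN', E2 := hEP, rel := ?_, fix := ?_ },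
    fun y hy hyE => hcR y (mem_RR.2 ⟨hy, fun k hk => (hyE k (hKE hk)).symm⟩), { odd := hco, nor := hO.cj_eq_of_cr hKo hcR, nt := ⟨k0, hk0, fun e' => hne0 ?_⟩, cr := hcR }⟩
  · exact mul_mem hc0N hfN
  · rw [← hY]; exact hNYle
  · rw [← hY]
    intro g hg
    rw [mem_normalizer_iff_cj]
    exact cj_eq_of_mem fun y hy => hNconj g hg y hy
  · rw [← Nat.not_even_iff_odd, even_iff_two_dvd]; exact hrelo
  · intro M hM hMS
    by_cases hMa : zz M = a
    · right; exact hO.le M ⟨hM, hMa⟩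
    · left
      intro m hm
      have hMK : M ≠ K := by rintro rfl; exact hMa hKa
      have hmU : m ∈ U := (mU m).2 ⟨hMS hm, fun k hk => w.pg K hK M hM _ hS2 (hOvS K hKo) hMS hMK.symm k hk m hm,
        hMs M hM hMS m hm⟩
      exact (hfix m hmU).symm
  · have h1 := hfK k0 hk0
    have e2 : c0 * k0 * f = k0 * c0 * f := by
      calc c0 * k0 * f = c0 * (k0 * f) := by group
        _ = c0 * f * k0 := by rw [h1]; group
        _ = k0 * (c0 * f) := e'
        _ = _ := by group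
    exact mul_right_cancel e2

/-! ### in the group `G` -/

section amb

variable {G : Type*} [Group G] [Finite G] {Om : Set (Subgroup G)} {K J T : Subgroup G} {s : G}

theorem sub_transfer {C : Subgroup G} (s' : ↥C)
    (hsub : (J.subgroupOf (C ⊓ centralizer {(s' : G)})).IsSubnormal) :
    ((J.subgroupOf C).subgroupOf (centralizer {s'})).IsSubnormal := by
  have hmem : ∀ y : ↥(centralizer ({s'} : Set ↥C)), (y : ↥C).1 ∈ C ⊓ centralizer {(s' : G)} := by
    intro y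
    exact ⟨y.1.2, mem_centralizer_singleton_iff.2 (congrArg Subtype.val (mem_centralizer_singleton_iff.1 y.2))⟩
  obtain ⟨f, hf⟩ : ∃ f : ↥(centralizer ({s'} : Set ↥C)) →* ↥(C ⊓ centralizer {(s' : G)} : Subgroup G),
      ∀ y, (f y : G) = y.1.1 :=
    ⟨{ toFun := fun y => ⟨y.1.1, hmem y⟩, map_one' := rfl, map_mul' := fun _ _ => rfl }, fun _ => rfl⟩
  have h1 := hsub.comap f
  have h2 : (J.subgroupOf (C ⊓ centralizer {(s' : G)})).comap f = (J.subgroupOf C).subgroupOf (centralizer {s'}) := by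
    ext y
    rw [mem_comap, mem_subgroupOf, mem_subgroupOf, mem_subgroupOf, hf]
  rwa [h2] at h1

theorem H8.restr (h : H8 Om) (C : Subgroup G) : H8 (Cit.restr Om C) where
  hyp := h.hyp.restr C
  card := by
    intro K hK
    rw [← h.card _ (mem_restr.1 hK), card_map_of_injective C.subtype_injective]

theorem zz_subgroupOf (h : Hyp Om) {C : Subgroup G} (hK : K ∈ Om) (hKC : K ≤ C) :
    ((zz (K.subgroupOf C) : ↥C) : G) = zz K := by
  rw [zz_map h (subgroupOf_mem_restr hK hKC), map_subgroupOf_eq_of_le hKC]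

/-- the choice of `c`, `C = C(z_K)` -/
theorem H8.exists_choice_aux {C : Subgroup G} (hC : C = centralizer ({zz K} : Set G)) (haC : zz K ∈ C) (h : H8 Om)
    (hK : K ∈ Om) (hcore : oddCore ↥C = ⊥)
    (hT : IsPGroup 2 T) (hKT : K ≤ T) (s2 : s * s = 1)
    (sT : s ∈ closure {z | ∃ M ∈ Om, M ≤ T ∧ zz M = z}) (hKJ : K ≤ J) (hJ : J ≤ C ⊓ centralizer {s})
    (hsub : (J.subgroupOf (C ⊓ centralizer {s})).IsSubnormal) (e : (↥J ⧸ oddCore ↥J) ≃* SL23) :
    ∃ (S : Sylow 2 ↥C) (N : Subgroup ↥C) (s' c : ↥C), (s' : G) = s ∧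
      LO.TW (Cit.restr Om C) S N (RG.RR (Cit.restr Om C) ⟨zz K, haC⟩) s' c ∧
      (∀ x ∈ pCore 2 ↥C, (∀ y ∈ RG.RR (Cit.restr Om C) ⟨zz K, haC⟩, x * y = y * x) → c * x = x * c) ∧
      CK K (c : G) := by
  haveI : Fact (Nat.Prime 2) := ⟨Nat.prime_two⟩
  have w : RG.WR Om := RG.WR.of_hyp h.hyp h.card
  have hKC : K ≤ C := by rw [hC]; exact h.le hK
  have hMC : ∀ M ∈ Om, M ≤ T → M ≤ C := by
    intro M hM hMT m hm
    rw [hC, mem_centralizer_singleton_iff]
    by_cases hne : M = K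
    · subst hne; exact w.cen hM hm
    · exact w.pg M hM K hK T hT hMT hKT hne m hm _ (w.zm hK)
  obtain ⟨S, hS⟩ := IsPGroup.exists_le_sylow (hT.comap_subtype (K := C))
  have hMS : ∀ M ∈ Om, M ≤ T → M.subgroupOf C ≤ (S : Subgroup ↥C) := fun M _ hMT =>
    le_trans (fun m hm => mem_subgroupOf.2 (hMT (mem_subgroupOf.1 hm))) hS
  obtain ⟨s', hs', hss⟩ : ∃ s' : ↥C, s' ∈ closure {z | ∃ K ∈ Cit.restr Om C, K ≤ (S : Subgroup ↥C) ∧ zz K = z} ∧
      (s' : G) = s := by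
    have h1 : closure {z | ∃ M ∈ Om, M ≤ T ∧ zz M = z} ≤
        (closure {z | ∃ K ∈ Cit.restr Om C, K ≤ (S : Subgroup ↥C) ∧ zz K = z}).map C.subtype := by
      rw [closure_le]
      rintro z ⟨M, hM, hMT, rfl⟩
      refine ⟨zz (M.subgroupOf C), subset_closure ⟨_, subgroupOf_mem_restr hM (hMC M hM hMT), hMS M hM hMT, rfl⟩, ?_⟩
      exact zz_subgroupOf h.hyp hM (hMC M hM hMT)
    obtain ⟨s', h2, h3⟩ := h1 sT
    exact ⟨s', h2, h3⟩
  subst hss
  have hJC : J ≤ C := hJ.trans inf_le_left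
  have hcen : ∀ g : ↥C, g * (⟨zz K, haC⟩ : ↥C) = ⟨zz K, haC⟩ * g := by
    intro g
    have h1 : (g : G) ∈ centralizer ({zz K} : Set G) := by rw [← hC]; exact g.2
    exact Subtype.ext (mem_centralizer_singleton_iff.1 h1)
  have e' : (↥(J.subgroupOf C) ⧸ oddCore ↥(J.subgroupOf C)) ≃* SL23 :=
    (QuotientGroup.congr (oddCore ↥(J.subgroupOf C)) (oddCore ↥J) (subgroupOfEquivOfLe hJC)
      (Lib.Cores.map_equiv_pPrimeCore (subgroupOfEquivOfLe hJC) 2)).trans e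
  obtain ⟨N, c, ht, hcR, hc⟩ := Three.exists_choice (h.restr C) hcore hcen (subgroupOf_mem_restr hK hKC)
    (Subtype.ext (zz_subgroupOf h.hyp hK hKC)) (s := s') (S := S) (Subtype.ext s2) hs' (J := J.subgroupOf C)
    (fun k hk => mem_subgroupOf.2 (hKJ (mem_subgroupOf.1 hk)))
    (fun j hj => mem_centralizer_singleton_iff.2
      (Subtype.ext (mem_centralizer_singleton_iff.1 (hJ (mem_subgroupOf.1 hj)).2)))
    (sub_transfer s' hsub) e'
  refine ⟨S, N, s', c, rfl, ht, hcR, ?_⟩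
  refine { odd := ?_, nor := ?_, nt := ?_, cr := ?_ }
  · rw [Subgroup.orderOf_coe]; exact hc.odd
  · refine cj_eq_of_mem fun k hk => ?_
    have h1 := mem_normalizer_of_cj hc.nor (k := ⟨k, hKC hk⟩) (mem_subgroupOf.2 hk)
    exact mem_subgroupOf.1 h1
  · obtain ⟨k, hk, hne⟩ := hc.nt
    exact ⟨k, mem_subgroupOf.1 hk, fun e' => hne (Subtype.ext e')⟩
  · intro r hr
    rw [CP, ← hC] at hr
    obtain ⟨r', hr', rfl⟩ := hr
    exact congrArg Subtype.val (hc.cr r' hr')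

/-- **the choice of `c`**, `H = C(z_K)`, `T` a 2-subgroup of `G` containing `K`, `s ∈ T_T` -/
theorem H8.exists_choice (h : H8 Om) (hK : K ∈ Om) (hcore : oddCore ↥(centralizer ({zz K} : Set G)) = ⊥)
    (hT : IsPGroup 2 T) (hKT : K ≤ T) (s2 : s * s = 1)
    (sT : s ∈ closure {z | ∃ M ∈ Om, M ≤ T ∧ zz M = z}) (hKJ : K ≤ J) (hJ : J ≤ centralizer {zz K} ⊓ centralizer {s})
    (hsub : (J.subgroupOf (centralizer {zz K} ⊓ centralizer {s})).IsSubnormal) (e : (↥J ⧸ oddCore ↥J) ≃* SL23) :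
    ∃ (S : Sylow 2 ↥(centralizer ({zz K} : Set G))) (N : Subgroup ↥(centralizer ({zz K} : Set G)))
      (s' c : ↥(centralizer ({zz K} : Set G))), (s' : G) = s ∧
      LO.TW (Cit.restr Om (centralizer {zz K})) S N (RG.RR (Cit.restr Om (centralizer {zz K})) (ac (zz K))) s' c ∧
      (∀ x ∈ pCore 2 ↥(centralizer ({zz K} : Set G)),
        (∀ y ∈ RG.RR (Cit.restr Om (centralizer {zz K})) (ac (zz K)), x * y = y * x) → c * x = x * c) ∧
      CK K (c : G) :=
  H8.exists_choice_aux rfl (self_mem (zz K)) h hK hcore hT hKT s2 sT hKJ hJ hsub e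

theorem ac_cen (a : G) (g : ↥(centralizer ({a} : Set G))) : ac a * g = g * ac a :=
  Subtype.ext (mem_centralizer_singleton_iff.1 g.2).symm

/-- **the end of (n2)**: if `c` is inner on every component in the world `TW`, then `K` is THREE -/
theorem H8.three_prop (h : H8 Om) (hK : K ∈ Om) (hcore : oddCore ↥(centralizer ({zz K} : Set G)) = ⊥)
    (hT : IsPGroup 2 T) (hKT : K ≤ T) (s2 : s * s = 1)
    (sT : s ∈ closure {z | ∃ M ∈ Om, M ≤ T ∧ zz M = z}) (hKJ : K ≤ J) (hJ : J ≤ centralizer {zz K} ⊓ centralizer {s})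
    (hsub : (J.subgroupOf (centralizer {zz K} ⊓ centralizer {s})).IsSubnormal) (e : (↥J ⧸ oddCore ↥J) ≃* SL23)
    (hin : ∀ (S : Sylow 2 ↥(centralizer ({zz K} : Set G))) (N : Subgroup ↥(centralizer ({zz K} : Set G)))
      (s' c : ↥(centralizer ({zz K} : Set G))),
      LO.TW (Cit.restr Om (centralizer {zz K})) S N (RG.RR (Cit.restr Om (centralizer {zz K})) (ac (zz K))) s' c →
      (∀ x ∈ pCore 2 ↥(centralizer ({zz K} : Set G)),
        (∀ y ∈ RG.RR (Cit.restr Om (centralizer {zz K})) (ac (zz K)), x * y = y * x) → c * x = x * c) →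
      ∀ L : Subgroup ↥(centralizer ({zz K} : Set G)), IsComponent L → ∃ l ∈ L, ∀ x ∈ L, c * x * c⁻¹ = l * x * l⁻¹) :
    IndDefs.Three K := by
  obtain ⟨S, N, s', c, -, ht, hcR, hc⟩ := h.exists_choice hK hcore hT hKT s2 sT hKJ hJ hsub e
  refine h.three hK hcore hc fun L hL => ?_
  obtain ⟨l, hl, h1⟩ := hin S N s' c ht hcR L hL
  exact ⟨l, hl, fun x hx => congrArg Subtype.val (h1 x hx)⟩

end amb

end Cfsg.Agent.Cit.Nil.Three
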