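import Cfsg.Agent.Cit.Nil.Three.Inst

/-!
# S1309, node (n2): from THREE in `C(s)` to the group `J ≤ C(z_K) ∩ C(s)`

`exists_data` : `T₀` a 2-subgroup, `s ∈ ⟨z_K : K ≤ T₀⟩`, `K₁ ≤ C(s)` a member with THREE in `C(s)`: the data of `Choice`.
-/

set_option autoImplicit false
set_option linter.style.haveILetI false
set_option linter.unusedSectionVars false

namespace Cfsg.Agent.Cit.Nil.Three

open Subgroup Cfsg Cit RTwo IndDefs

variable {G : Type*} [Group G] [Finite G] {Om : Set (Subgroup G)} {s : G}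

/-- the group generated by the `z_K`, `K ≤ T` -/
def TG (Om : Set (Subgroup G)) (T : Subgroup G) : Subgroup G := closure {z | ∃ K ∈ Om, K ≤ T ∧ zz K = z}

/-- the members in `T` centralise `T_T` -/
theorem H8.le_cent_TG (h : H8 Om) {T K : Subgroup G} (hT : IsPGroup 2 T) (hK : K ∈ Om) (hKT : K ≤ T) {x k : G}
    (hx : x ∈ TG Om T) (hk : k ∈ K) : x * k = k * x := by
  have h1 : TG Om T ≤ centralizer ({k} : Set G) := by
    rw [TG, closure_le]
    rintro z ⟨L, hL, hLT, rfl⟩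
    refine mem_centralizer_singleton_iff.2 ?_
    by_cases hKL : L = K
    · subst hKL
      exact (mem_centralizer_singleton_iff.1 (h.le hK hk)).symm
    · have hm : ∀ M ∈ Om, M ≤ T → M ∈ OmS Om T := by
        intro M hM hMT
        refine ⟨hM, ?_⟩
        rw [relIndex_eq_one.2 hMT]
        norm_num
      exact h.hyp.comm hT (hm L hL hLT) (hm K hK hKT) hKL
        (mem_inf.2 ⟨h.hyp.zz_mem hL, hLT (h.hyp.zz_mem hL)⟩) (mem_inf.2 ⟨hk, hKT hk⟩)
  exact mem_centralizer_singleton_iff.1 (h1 hx)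

/-- conjugation inside `C(s)`: a 2-subgroup `T` with `K ≤ T`, `s ∈ T_T` -/
theorem H8.exists_T (h : H8 Om) {T₀ K : Subgroup G} (hT₀ : IsPGroup 2 T₀) (hs : s ∈ TG Om T₀) (hK : K ∈ Om)
    (hKs : K ≤ centralizer {s}) : ∃ T : Subgroup G, IsPGroup 2 T ∧ K ≤ T ∧ s ∈ TG Om T := by
  haveI : Fact (Nat.Prime 2) := ⟨Nat.prime_two⟩
  obtain ⟨C, hC⟩ : ∃ C : Subgroup G, C = centralizer {s} := ⟨_, rfl⟩
  obtain ⟨U, hU⟩ : ∃ U : Subgroup G, U = sSup {L | L ∈ Om ∧ L ≤ T₀} := ⟨_, rfl⟩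
  have hUT : U ≤ T₀ := by rw [hU]; exact sSup_le fun L hL => hL.2
  have hUC : U ≤ C := by
    rw [hU, hC]
    refine sSup_le fun L hL k hk => ?_
    exact mem_centralizer_singleton_iff.2 (h.le_cent_TG hT₀ hL.1 hL.2 hs hk).symm
  have h1 : IsPGroup 2 (U.subgroupOf C) := (hT₀.to_le hUT).comap_subtype
  have h2 : IsPGroup 2 (K.subgroupOf C) := (h.isPGroup hK).comap_subtype
  obtain ⟨P₁, hP₁⟩ := h1.exists_le_sylow
  obtain ⟨P₂, hP₂⟩ := h2.exists_le_sylow
  obtain ⟨g, hg⟩ := MulAction.exists_smul_eq C P₁ P₂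
  refine ⟨(P₂ : Subgroup C).map C.subtype, P₂.isPGroup'.map _, ?_, ?_⟩
  · intro k hk
    exact ⟨⟨k, by rw [hC]; exact hKs hk⟩, hP₂ (mem_subgroupOf.2 hk), rfl⟩
  · -- `s = g s g⁻¹`
    have hgs : (g : G) * s * (g : G)⁻¹ = s := by
      have h3 : (g : G) ∈ centralizer ({s} : Set G) := by rw [← hC]; exact g.2
      rw [mem_centralizer_singleton_iff.1 h3, mul_inv_cancel_right]
    have h3 : TG Om T₀ ≤ (TG Om ((P₂ : Subgroup C).map C.subtype)).comap (MulAut.conj (g : G)).toMonoidHom := by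
      rw [TG, closure_le]
      rintro z ⟨L, hL, hLT, rfl⟩
      refine subset_closure ⟨cj (g : G) L, h.hyp.conj L hL _, ?_, ?_⟩
      · intro y hy
        rw [mem_cj] at hy
        have hyU : (g : G)⁻¹ * y * g ∈ U := by
          rw [hU]
          exact (le_sSup (show L ∈ {L | L ∈ Om ∧ L ≤ T₀} from ⟨hL, hLT⟩)) hy
        have hy1 : (⟨(g : G)⁻¹ * y * g, hUC hyU⟩ : C) ∈ P₁ := hP₁ (mem_subgroupOf.2 hyU)
        have hy2 : g * (⟨(g : G)⁻¹ * y * g, hUC hyU⟩ : C) * g⁻¹ ∈ P₂ := by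
          rw [← hg]
          exact ⟨_, hy1, rfl⟩
        refine ⟨_, hy2, ?_⟩
        change (g : G) * ((g : G)⁻¹ * y * g) * (g : G)⁻¹ = y
        group
      · rw [h.hyp.zz_cj hL]; rfl
    have h4 := h3 hs
    rw [mem_comap] at h4
    change (g : G) * s * (g : G)⁻¹ ∈ _ at h4
    rwa [hgs] at h4

/-- **the data of the choice of `c`** -/
theorem H8.exists_data (h : H8 Om) {T₀ : Subgroup G} (hT₀ : IsPGroup 2 T₀) (hs : s ∈ TG Om T₀)
    {K₁ : Subgroup ↥(centralizer ({s} : Set G))} (hK₁ : K₁ ∈ restr Om (centralizer {s})) (h3 : IndDefs.Three K₁) :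
    ∃ (K J T : Subgroup G), K ∈ Om ∧ IsPGroup 2 T ∧ K ≤ T ∧ s ∈ TG Om T ∧ K ≤ J ∧
      J ≤ centralizer {zz K} ⊓ centralizer {s} ∧ (J.subgroupOf (centralizer {zz K} ⊓ centralizer {s})).IsSubnormal ∧
      Nonempty ((↥J ⧸ oddCore ↥J) ≃* Matrix.SpecialLinearGroup (Fin 2) (ZMod 3)) := by
  obtain ⟨J₁, hJz, hKJ, hsub, ⟨e⟩⟩ := h3
  obtain ⟨C, hC⟩ : ∃ C : Subgroup G, C = centralizer {s} := ⟨_, rfl⟩
  have hzz : ((zz K₁ : ↥(centralizer ({s} : Set G))) : G) = zz (K₁.map (centralizer ({s} : Set G)).subtype) :=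
    zz_map h.hyp hK₁
  have hKs : K₁.map (centralizer ({s} : Set G)).subtype ≤ centralizer {s} := map_subtype_le _
  obtain ⟨T, hT, hKT, hsT⟩ := h.exists_T hT₀ hs hK₁ hKs
  refine ⟨K₁.map (centralizer ({s} : Set G)).subtype, J₁.map (centralizer ({s} : Set G)).subtype, T, hK₁, hT, hKT, hsT,
    map_mono hKJ, ?_, ?_, ?_⟩
  · refine le_inf ?_ (map_subtype_le _)
    rintro _ ⟨y, hy, rfl⟩
    rw [mem_centralizer_singleton_iff, ← hzz]
    exact congrArg Subtype.val (mem_centralizer_singleton_iff.1 (hJz hy))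
  · -- `C(z) ∩ C(s) → C_{C(s)}(z)`
    have hmem : ∀ y : ↥(centralizer ({zz (K₁.map (centralizer ({s} : Set G)).subtype)} : Set G) ⊓ centralizer {s} :
        Subgroup G), (⟨(y : G), y.2.2⟩ : ↥(centralizer ({s} : Set G))) ∈ centralizer {zz K₁} := by
      intro y
      refine mem_centralizer_singleton_iff.2 (Subtype.ext ?_)
      change (y : G) * (zz K₁ : ↥(centralizer ({s} : Set G))) = (zz K₁ : ↥(centralizer ({s} : Set G))) * (y : G)
      rw [hzz]
      exact mem_centralizer_singleton_iff.1 y.2.1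
    obtain ⟨f, hf⟩ : ∃ f : ↥(centralizer ({zz (K₁.map (centralizer ({s} : Set G)).subtype)} : Set G) ⊓
        centralizer {s} : Subgroup G) →* ↥(centralizer ({zz K₁} : Set ↥(centralizer ({s} : Set G)))),
        ∀ y, ((f y : ↥(centralizer ({s} : Set G))) : G) = y :=
      ⟨{ toFun := fun y => ⟨⟨(y : G), y.2.2⟩, hmem y⟩, map_one' := rfl, map_mul' := fun _ _ => rfl }, fun _ => rfl⟩
    have h1 := hsub.comap f
    have h2 : (J₁.subgroupOf (centralizer {zz K₁})).comap f = (J₁.map (centralizer ({s} : Set G)).subtype).subgroupOf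
        (centralizer {zz (K₁.map (centralizer ({s} : Set G)).subtype)} ⊓ centralizer {s}) := by
      ext y
      rw [mem_comap, mem_subgroupOf, mem_subgroupOf]
      constructor
      · intro hy
        exact ⟨_, hy, hf y⟩
      · rintro ⟨x, hx, hxy⟩
        have h5 : x = (f y : ↥(centralizer ({s} : Set G))) := Subtype.ext (hxy.trans (hf y).symm)
        rwa [← h5]
    rwa [h2] at h1
  · have e1 : ↥J₁ ≃* ↥(J₁.map (centralizer ({s} : Set G)).subtype) :=
      J₁.equivMapOfInjective _ (centralizer ({s} : Set G)).subtype_injective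
    exact ⟨(QuotientGroup.congr (oddCore ↥J₁) (oddCore _) e1 (Lib.Cores.map_equiv_pPrimeCore e1 2)).symm.trans e⟩

end Cfsg.Agent.Cit.Nil.Three
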