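import Cfsg.Agent.Cit.Nil.Three.Base

/-!
# S1309, node (n2) THREE PROPAGATION: the PRINCIPLE (helper981 #17955 (0))

`Over.principle` : `c` (as in `Cc`) inducing an inner automorphism on every component of `C(a)` makes `K` THREE:
`K ≤ J` subnormal, `J ≃* SL(2, 3)`.
-/

set_option autoImplicit false
set_option linter.style.haveILetI false
set_option linter.unusedSectionVars false
set_option maxHeartbeats 400000

namespace Cfsg.Agent.Cit.Nil.Three

open Subgroup Cfsg Cit RTwo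
open Cfsg.Agent.SignalizersComponents.Components

variable {G : Type*} [Group G]

/-- `M₁ = C(R) ∩ C(E(G))` -/
def M1 (K : Subgroup G) : Subgroup G := centralizer ((RR K : Subgroup G) : Set G) ⊓ centralizer (layer G : Set G)

theorem mem_M1 {K : Subgroup G} {m : G} : m ∈ M1 K ↔ (∀ r ∈ RR K, r * m = m * r) ∧ ∀ e ∈ layer G, e * m = m * e := by
  rw [M1, mem_inf, mem_centralizer_iff, mem_centralizer_iff]
  rfl

/-- `C₀` = the kernel of `G` on the members -/
def C0 (MM : Set (Subgroup G)) : Subgroup G where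
  carrier := {g | ∀ K ∈ MM, cj g K = K}
  mul_mem' := by
    intro x y hx hy K hK
    rw [cj_mul, hy K hK, hx K hK]
  one_mem' := fun K _ => cj_one K
  inv_mem' := by
    intro x hx K hK
    have := congrArg (cj x⁻¹) (hx K hK)
    rw [cj_inv_cj] at this
    exact this.symm

/-- the elements of `M₁` acting on `K` as translations -/
def M2 (K : Subgroup G) (a : G) (x : Fin 3 → G) (ha : a * a = 1) (hc : ∀ g : G, g * a = a * g) : Subgroup G where
  carrier := {y | y ∈ M1 K ∧ ∃ i : Fin 3, Act a x x y (Equiv.addRight i)}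
  mul_mem' := by
    rintro y w ⟨hy, i, hi⟩ ⟨hw, j, hj⟩
    refine ⟨mul_mem hy hw, j + i, ?_⟩
    have h1 := hj.comp ha hi (hc y)
    have e : Equiv.addRight i * Equiv.addRight j = Equiv.addRight (j + i) := by
      ext k; show ((k + j + i : Fin 3) : ℕ) = ((k + (j + i) : Fin 3) : ℕ); rw [add_assoc]
    rwa [e] at h1
  one_mem' := ⟨one_mem _, 0, fun i => Or.inl (by simp)⟩
  inv_mem' := by
    rintro y ⟨hy, i, hi⟩
    refine ⟨inv_mem hy, -i, fun j => ?_⟩
    obtain ⟨l, hl⟩ : ∃ l : Fin 3, l = j + -i := ⟨_, rfl⟩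
    have h1 := hi l
    have e : (Equiv.addRight i) l = j := by rw [hl]; show j + -i + i = j; exact neg_add_cancel_right j i
    rw [e] at h1
    have e2 : (Equiv.addRight (-i)) j = l := hl.symm
    rw [e2]
    have hya : y⁻¹ * a = a * y⁻¹ := hc _
    rcases h1 with h1 | h1
    · left; rw [← h1]; group
    · right
      have h2 : x j = a * (y * x l * y⁻¹) := by rw [h1, ← mul_assoc, ha, one_mul]
      rw [h2]
      calc y⁻¹ * (a * (y * x l * y⁻¹)) * y⁻¹⁻¹ = (y⁻¹ * a) * y * x l := by group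
        _ = a * x l := by rw [hya]; group

section

variable [Finite G] {MM : Set (Subgroup G)} {a s c g r k : G} {K L J : Subgroup G} {x : Fin 3 → G}

theorem q3_conj_cases {z l : G} (hx : Q3 K z x) (hl : l ∈ K) (j : Fin 3) :
    x j * l * (x j)⁻¹ = l ∨ x j * l * (x j)⁻¹ = z * l := by
  rcases hx.cov l hl with rfl | rfl | ⟨i, rfl | rfl⟩
  · left; group
  · left; rw [← hx.zc, mul_inv_cancel_right]
  · by_cases hij : j = i
    · subst hij; left; exact Q3.conj_self _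
    · right; exact hx.conj_ne hij
  · have e : x j * (z * x i) * (x j)⁻¹ = z * (x j * x i * (x j)⁻¹) := by
      rw [← mul_assoc, ← hx.zc]; group
    rw [e]
    by_cases hij : j = i
    · subst hij; left; rw [Q3.conj_self]
    · right; rw [hx.conj_ne hij]

theorem comm_layer {p e : G} (hp : p ∈ pCore 2 G) (he : e ∈ layer G) : e * p = p * e := by
  haveI : Fact (Nat.Prime 2) := ⟨Nat.prime_two⟩
  have h1 : p ∈ fittingSubgroup G := Lib.Cores.pCore_le_fittingSubgroup 2 hp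
  exact (mem_centralizer_iff.1 (layer_le_centralizer_fitting he) p h1).symm

theorem isComponent_subnormal_step {J M : Subgroup G} (hJM : J ≤ M) (hM : M.IsSubnormal)
    (hn : ∀ m ∈ M, ∀ j ∈ J, m * j * m⁻¹ ∈ J) : J.IsSubnormal := by
  refine Subgroup.IsSubnormal.step _ M hJM hM ⟨?_⟩
  rintro ⟨j, hjM⟩ hj ⟨m, hmM⟩
  exact hn m hmM j hj

/-- an element of the layer with the same action as `c` on all components -/
theorem exists_layer (hin : ∀ L : Subgroup G, IsComponent L → ∃ l ∈ L, ∀ x ∈ L, c * x * c⁻¹ = l * x * l⁻¹) :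
    ∃ e ∈ layer G, ∀ L : Subgroup G, IsComponent L → ∀ x ∈ L, c * x * c⁻¹ = e * x * e⁻¹ := by
  classical
  haveI : Finite (Subgroup G) := inferInstance
  have key : ∀ s : Finset (Subgroup G), (∀ L ∈ s, IsComponent L) → ∃ e ∈ layer G,
      (∀ L ∈ s, ∀ x ∈ L, c * x * c⁻¹ = e * x * e⁻¹) ∧ ∀ L, IsComponent L → L ∉ s → ∀ x ∈ L, e * x = x * e := by
    intro s
    induction s using Finset.induction_on with
    | empty =>
      intro _
      exact ⟨1, one_mem _, fun L hL => absurd hL (Finset.notMem_empty L), fun L _ _ x _ => by rw [one_mul, mul_one]⟩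
    | insert L0 s hL0 ih =>
      intro hs
      obtain ⟨e, he, h1, h2⟩ := ih (fun L hL => hs L (Finset.mem_insert_of_mem hL))
      have hc0 : IsComponent L0 := hs L0 (Finset.mem_insert_self _ _)
      obtain ⟨l, hl, h3⟩ := hin L0 hc0
      have hcomm : ∀ L, IsComponent L → L ≠ L0 → ∀ x ∈ L, l * x = x * l := by
        intro L hL hne x hx
        exact (mem_centralizer_iff.1 (component_le_centralizer_of_ne hc0 hL hne.symm hl) x hx).symm
      refine ⟨l * e, mul_mem (component_le_layer hc0 hl) he, ?_, ?_⟩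
      · intro L hL x hx
        rcases Finset.mem_insert.1 hL with rfl | hL
        · have h4 := h2 L hc0 hL0 x hx
          calc c * x * c⁻¹ = l * x * l⁻¹ := h3 x hx
            _ = l * (x * e) * e⁻¹ * l⁻¹ := by group
            _ = l * (e * x) * e⁻¹ * l⁻¹ := by rw [h4]
            _ = _ := by group
        · have hLc := hs L (Finset.mem_insert_of_mem hL)
          have hne : L ≠ L0 := fun e' => hL0 (e' ▸ hL)
          have h5 := h1 L hL x hx
          obtain ⟨l', hl', h6⟩ := hin L hLc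
          have h7 : e * x * e⁻¹ ∈ L := by rw [← h5, h6 x hx]; exact mul_mem (mul_mem hl' hx) (inv_mem hl')
          have h8 := hcomm L hLc hne _ h7
          calc c * x * c⁻¹ = e * x * e⁻¹ := h5
            _ = (e * x * e⁻¹ * l) * l⁻¹ := by group
            _ = (l * (e * x * e⁻¹)) * l⁻¹ := by rw [h8]
            _ = _ := by group
      · intro L hL hLs x hx
        have hne : L ≠ L0 := fun e' => hLs (e' ▸ Finset.mem_insert_self _ _)
        have h4 := h2 L hL (fun h => hLs (Finset.mem_insert_of_mem h)) x hx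
        have h5 := hcomm L hL hne x hx
        rw [mul_assoc, h4, ← mul_assoc, h5, mul_assoc]
  have hfin : (Set.univ : Set (Subgroup G)).Finite := Set.toFinite _
  obtain ⟨e, he, h1, -⟩ := key (hfin.toFinset.filter (fun L => IsComponent L)) (fun L hL => (Finset.mem_filter.1 hL).2)
  exact ⟨e, he, fun L hL x hx => h1 L (Finset.mem_filter.2 ⟨hfin.mem_toFinset.2 (Set.mem_univ _), hL⟩) x hx⟩

/-- `C(E(G)) ∩ C(K) ∩ C(R) = Z(F*(G))`, a 2-group in `R` -/
theorem mem_RR_of_M1 (h : Over MM a) (hP : ∀ p ∈ pCore 2 G, ∃ k ∈ K, ∃ r ∈ RR K, p = k * r)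
    {d : G} (hd : d ∈ M1 K) (hdK : ∀ k ∈ K, k * d = d * k) : d ∈ RR K := by
  haveI : Fact (Nat.Prime 2) := ⟨Nat.prime_two⟩
  rw [mem_M1] at hd
  have h1 : d ∈ centralizer (generalizedFittingSubgroup G : Set G) := by
    have h2 : generalizedFittingSubgroup G ≤ centralizer ({d} : Set G) := by
      refine sup_le ?_ ?_
      · intro e he
        rw [mem_centralizer_singleton_iff]
        exact hd.2 e he
      · intro p hp
        rw [mem_centralizer_singleton_iff]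
        obtain ⟨k, hk, r, hr, rfl⟩ := hP p (ThreePrime.Pump.fitting_le_pCore h.core hp)
        rw [mul_assoc, hd.1 r hr, ← mul_assoc, hdK k hk, mul_assoc]
    rw [mem_centralizer_iff]
    intro y hy
    exact mem_centralizer_singleton_iff.1 (h2 hy)
  have h2 : d ∈ pCore 2 G :=
    ThreePrime.Pump.fitting_le_pCore h.core (TwoFusion.FStarControl.centralizer_genFitting_le_fitting h1)
  exact mem_RR.2 ⟨h2, hdK⟩

/-- **THE PRINCIPLE** -/
theorem Over.principle (h : Over MM a) (hK : K ∈ MM) (hc : Cc K c)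
    (hin : ∀ L : Subgroup G, IsComponent L → ∃ l ∈ L, ∀ x ∈ L, c * x * c⁻¹ = l * x * l⁻¹) :
    ∃ J : Subgroup G, K ≤ J ∧ J.IsSubnormal ∧ Nonempty (J ≃* Matrix.SpecialLinearGroup (Fin 2) (ZMod 3)) := by
  haveI : Fact (Nat.Prime 2) := ⟨Nat.prime_two⟩
  obtain ⟨x, hx⟩ := h.q3 K hK
  have ha2 := hx.z2
  have hP : ∀ p ∈ pCore 2 G, ∃ k ∈ K, ∃ r ∈ RR K, p = k * r := fun p hp => hc.exists_mul h hK hx hp
  -- `c'' = e⁻¹ c`
  obtain ⟨e, he, hec⟩ := exists_layer hin
  obtain ⟨c2, hc2⟩ : ∃ c2, c2 = e⁻¹ * c := ⟨_, rfl⟩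
  have hc2L : ∀ L, IsComponent L → ∀ y ∈ L, y * c2 = c2 * y := by
    intro L hL y hy
    have h1 := hec L hL y hy
    calc y * c2 = e⁻¹ * (e * y * e⁻¹) * c := by rw [hc2]; group
      _ = e⁻¹ * (c * y * c⁻¹) * c := by rw [h1]
      _ = _ := by rw [hc2]; group
  have hc2E : ∀ y ∈ layer G, y * c2 = c2 * y := by
    have h1 : layer G ≤ centralizer ({c2} : Set G) := by
      rw [layer_le_iff]
      intro L hL y hy
      rw [mem_centralizer_singleton_iff]
      exact hc2L L hL y hy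
    intro y hy
    exact mem_centralizer_singleton_iff.1 (h1 hy)
  have hc2P : ∀ p ∈ pCore 2 G, c2 * p * c2⁻¹ = c * p * c⁻¹ := by
    intro p hp
    have h1 : c * p * c⁻¹ ∈ pCore 2 G := conj_mem_pCore hp c
    have h2 := comm_layer h1 he
    calc c2 * p * c2⁻¹ = e⁻¹ * ((c * p * c⁻¹) * e) := by rw [hc2]; group
      _ = e⁻¹ * (e * (c * p * c⁻¹)) := by rw [h2]
      _ = _ := by group
  have hpow : ∀ n : ℕ, ∀ p ∈ pCore 2 G, c2 ^ n * p * (c2 ^ n)⁻¹ = c ^ n * p * (c ^ n)⁻¹ := by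
    intro n
    induction n with
    | zero => intro p _; simp
    | succ n ih =>
      intro p hp
      have e1 : c2 ^ (n + 1) * p * (c2 ^ (n + 1))⁻¹ = c2 * (c2 ^ n * p * (c2 ^ n)⁻¹) * c2⁻¹ := by
        rw [pow_succ' c2 n]; group
      have e2 : c ^ (n + 1) * p * (c ^ (n + 1))⁻¹ = c * (c ^ n * p * (c ^ n)⁻¹) * c⁻¹ := by
        rw [pow_succ' c n]; group
      rw [e1, e2, ih p hp, hc2P _ (conj_mem_pCore hp _)]
  -- the odd part
  obtain ⟨n, m, hm, hnm⟩ : ∃ n m : ℕ, Odd m ∧ orderOf c2 = 2 ^ n * m := by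
    obtain ⟨n, m, hm, hnm⟩ := Nat.exists_eq_two_pow_mul_odd (orderOf_pos c2).ne'
    exact ⟨n, m, hm, hnm⟩
  obtain ⟨d, hd⟩ : ∃ d, d = c2 ^ 2 ^ n := ⟨_, rfl⟩
  have hdo : Odd (orderOf d) := by
    have h1 : d ^ m = 1 := by rw [hd, ← pow_mul, ← hnm, pow_orderOf_eq_one]
    exact hm.of_dvd_nat (orderOf_dvd_of_pow_eq_one h1)
  have hdP : ∀ p ∈ pCore 2 G, d * p * d⁻¹ = c ^ 2 ^ n * p * (c ^ 2 ^ n)⁻¹ := fun p hp => by
    rw [hd]; exact hpow _ p hp
  have hKP : ∀ k ∈ K, k ∈ pCore 2 G := fun k hk => h.le K hK hk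
  have hdR : ∀ r ∈ RR K, d * r = r * d := by
    intro r hr
    have h1 := hdP r (mem_RR.1 hr).1
    have h2 : Commute c r := hc.cr r hr
    have h3 : c ^ 2 ^ n * r = r * c ^ 2 ^ n := (h2.pow_left _).eq
    rw [h3, mul_inv_cancel_right, mul_inv_eq_iff_eq_mul] at h1
    exact h1
  have hdE : ∀ y ∈ layer G, y * d = d * y := by
    intro y hy
    have h2 : Commute y c2 := hc2E y hy
    rw [hd]
    exact (h2.pow_right _).eq
  have hdK : cj d K = K := h.cj_eq_of_cr hK hdR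
  have hdnt : ∃ k ∈ K, d * k ≠ k * d := by
    by_contra hcon
    push Not at hcon
    obtain ⟨k, hk, hne⟩ := hc.nt
    apply hne
    refine (comm_of_pow_two hc.odd (n := n) ?_).eq
    have h1 := hdP k (hKP k hk)
    rw [hcon k hk, mul_inv_cancel_right] at h1
    show c ^ 2 ^ n * k = k * c ^ 2 ^ n
    rw [← mul_inv_eq_iff_eq_mul, ← h1]
  have hdc : Cc K d := ⟨hdo, hdK, hdnt, hdR⟩
  -- the action of `d`
  obtain ⟨τ, hτ, hτ3, hτ1⟩ := hdc.exists_act h hK hx
  obtain ⟨i, hi0, rfl⟩ : ∃ i : Fin 3, i ≠ 0 ∧ τ = Equiv.addRight i := by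
    have key : ∀ τ : Equiv.Perm (Fin 3), τ * τ * τ = 1 → τ ≠ 1 → ∃ i : Fin 3, i ≠ 0 ∧ τ = Equiv.addRight i := by
      decide
    exact key τ hτ3 hτ1
  have hdM1 : d ∈ M1 K := mem_M1.2 ⟨fun r hr => (hdR r hr).symm, hdE⟩
  -- `d ^ 3 = 1`
  have hd3 : d ^ 3 = 1 := by
    have h1 := act_pow ha2 hτ (h.cen d) 3
    have e3 : (Equiv.addRight i : Equiv.Perm (Fin 3)) ^ 3 = 1 := by rw [pow_succ, pow_two]; exact hτ3
    rw [e3] at h1
    have ho3 : Odd (orderOf (d ^ 3)) := hdo.of_dvd_nat (orderOf_pow_dvd 3)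
    have h2 : ∀ k ∈ K, k * d ^ 3 = d ^ 3 * k := fun k hk =>
      (comm_of_odd_inn ha2 ho3 (h.cen _) (Act.inner hx h1 (h.cen _) k hk)).symm
    have h3 := mem_RR_of_M1 h hP (pow_mem hdM1 3) h2
    obtain ⟨n', hn'⟩ := pow_two_of_mem (mem_RR.1 h3).1
    have h4 : Nat.Coprime (orderOf (d ^ 3)) (2 ^ n') := Nat.Coprime.pow_right _ (Nat.coprime_two_right.2 ho3)
    exact orderOf_eq_one_iff.1 (Nat.eq_one_of_dvd_coprimes h4 dvd_rfl (orderOf_dvd_of_pow_eq_one hn'))
  obtain ⟨J, hJ⟩ : ∃ J : Subgroup G, J = K ⊔ zpowers d := ⟨_, rfl⟩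
  have hKJ : K ≤ J := by rw [hJ]; exact le_sup_left
  have hdJ : d ∈ J := by rw [hJ]; exact mem_sup_right (mem_zpowers d)
  have hiso : Nonempty (J ≃* Matrix.SpecialLinearGroup (Fin 2) (ZMod 3)) := by
    rw [hJ]; exact sl_iso hx hi0 (h.cen d) hτ hd3
  have hKM1 : K ≤ M1 K := by
    intro k hk
    refine mem_M1.2 ⟨fun r hr => ((mem_RR.1 hr).2 k hk).symm, fun e' he' => comm_layer (hKP k hk) he'⟩
  have hM1K : ∀ m ∈ M1 K, cj m K = K := fun m hm => h.cj_eq_of_cr hK fun r hr => ((mem_M1.1 hm).1 r hr).symm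
  -- the chain
  have sC0 : (C0 MM).IsSubnormal := by
    refine isComponent_subnormal_step (M := ⊤) le_top Subgroup.IsSubnormal.top ?_
    intro m _ j hj L hL
    have h1 := hj _ (h.conj L hL m⁻¹)
    rw [cj_mul, cj_mul, h1, cj_cj_inv]
  have hM1C0 : M1 K ≤ C0 MM := by
    intro m hm L hL
    by_cases hLK : L = K
    · rw [hLK]; exact hM1K m hm
    · refine cj_eq_of_mem fun l hl => ?_
      have h1 := (mem_M1.1 hm).1 l (h.le_RR hK hL hLK hl)
      rw [← h1, mul_inv_cancel_right]; exact hl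
  have sM1 : (M1 K).IsSubnormal := by
    refine isComponent_subnormal_step hM1C0 sC0 ?_
    intro m hm j hj
    have hmK := hm K hK
    have hmK' : cj m⁻¹ K = K := (C0 MM).inv_mem hm K hK
    obtain ⟨h1, h2⟩ := mem_M1.1 hj
    refine mem_M1.2 ⟨fun r hr => ?_, fun y hy => ?_⟩
    · have h3 := h1 _ (conj_mem_RR hmK' hr)
      rw [inv_inv] at h3
      calc r * (m * j * m⁻¹) = m * ((m⁻¹ * r * m) * j) * m⁻¹ := by group
        _ = m * (j * (m⁻¹ * r * m)) * m⁻¹ := by rw [h3]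
        _ = _ := by group
    · have hn : (layer G).Normal := layer_normal G
      have h3 := h2 _ (hn.conj_mem y hy m⁻¹)
      rw [inv_inv] at h3
      calc y * (m * j * m⁻¹) = m * ((m⁻¹ * y * m) * j) * m⁻¹ := by group
        _ = m * (j * (m⁻¹ * y * m)) * m⁻¹ := by rw [h3]
        _ = _ := by group
  obtain ⟨M, hM⟩ : ∃ M, M = M2 K a x ha2 h.cen := ⟨_, rfl⟩
  have hMM1 : M ≤ M1 K := by rw [hM]; exact fun y hy => hy.1
  have sM : M.IsSubnormal := by
    refine isComponent_subnormal_step hMM1 sM1 ?_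
    intro y hy m hm
    rw [hM] at hm ⊢
    obtain ⟨hm1, j, hj⟩ := hm
    refine ⟨mul_mem (mul_mem hy hm1) (inv_mem hy), ?_⟩
    obtain ⟨σ, hσ⟩ := hx.exists_act hx (hM1K y hy) (h.cen y)
    have h4 := (act_inv hx hσ (h.cen y) (hM1K y hy)).comp ha2 hj (h.cen m)
    have h5 := h4.comp ha2 hσ (h.cen y)
    have key : ∀ (σ : Equiv.Perm (Fin 3)) (i : Fin 3), ∃ j, σ * (Equiv.addRight i * σ⁻¹) = Equiv.addRight j := by
      decide
    obtain ⟨j', hj'⟩ := key σ j
    refine ⟨j', ?_⟩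
    rw [hj', ← mul_assoc] at h5
    exact h5
  have hJM : J ≤ M := by
    rw [hJ, hM]
    refine sup_le ?_ (zpowers_le.2 ⟨hdM1, i, hτ⟩)
    intro k hk
    refine ⟨hKM1 hk, 0, ?_⟩
    have e0 : Equiv.addRight (0 : Fin 3) = 1 := by ext i; simp
    rw [e0]
    refine Act.of_inner hx fun l hl => ?_
    rcases hx.cov k hk with rfl | rfl | ⟨j, rfl | rfl⟩
    · left; group
    · left; rw [← h.cen, mul_inv_cancel_right]
    · exact q3_conj_cases hx hl j
    · have e1 : a * x j * l * (a * x j)⁻¹ = x j * l * (x j)⁻¹ := by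
        calc a * x j * l * (a * x j)⁻¹ = a * (x j * l * (x j)⁻¹) * a⁻¹ := by group
          _ = _ := by rw [← h.cen, mul_inv_cancel_right]
      rw [e1]
      exact q3_conj_cases hx hl j
  refine ⟨J, hKJ, isComponent_subnormal_step hJM sM ?_, hiso⟩
  intro m hm j hj
  rw [hM] at hm
  obtain ⟨hm1, i', hi'⟩ := hm
  obtain ⟨n', hn'⟩ := tra_key i i' hi0
  -- `m' = d ^ (-n') m` acts as an inner automorphism
  obtain ⟨m', hm'⟩ : ∃ m', m' = (d ^ (n' : ℕ))⁻¹ * m := ⟨_, rfl⟩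
  have hact : Act a x x m' 1 := by
    have h1 := act_pow ha2 hτ (h.cen d) (n' : ℕ)
    have hdnK : cj (d ^ (n' : ℕ)) K = K := hM1K _ (pow_mem hdM1 _)
    have h2 := act_inv hx h1 (h.cen _) hdnK
    have h3 := hi'.comp ha2 h2 (h.cen _)
    rw [← hm'] at h3
    have key : ∀ i i' n' : Fin 3, (n' : ℕ) • i = i' →
        ((Equiv.addRight i : Equiv.Perm (Fin 3)) ^ (n' : ℕ))⁻¹ * Equiv.addRight i' = 1 := by decide
    rwa [key i i' n' hn'] at h3
  have hm'M : m' ∈ M1 K := by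
    rw [hm']
    exact mul_mem (inv_mem (pow_mem hdM1 _)) hm1
  obtain ⟨k, hk, hkc⟩ : ∃ k ∈ K, ∀ l ∈ K, l * (k⁻¹ * m') = k⁻¹ * m' * l := by
    rcases hx.inner_cases (Act.inner hx hact (h.cen m')) with h1 | ⟨j, h1⟩
    · refine ⟨1, one_mem _, fun l hl => ?_⟩
      have h2 := h1 l hl
      rw [mul_inv_eq_iff_eq_mul] at h2
      rw [inv_one, one_mul, h2]
    · refine ⟨x j, hx.mem j, fun l hl => ?_⟩
      have h2 := h1 l hl
      symm
      calc (x j)⁻¹ * m' * l = (x j)⁻¹ * (m' * l * m'⁻¹) * m' := by group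
        _ = (x j)⁻¹ * (x j * l * (x j)⁻¹) * m' := by rw [h2]
        _ = _ := by group
  have hDM : k⁻¹ * m' ∈ M1 K := mul_mem (inv_mem (hKM1 hk)) hm'M
  have hDR : k⁻¹ * m' ∈ RR K := mem_RR_of_M1 h hP hDM hkc
  have hxJ : ∀ l ∈ J, k⁻¹ * m' * l = l * (k⁻¹ * m') := by
    have h1 : J ≤ centralizer {k⁻¹ * m'} := by
      rw [hJ]
      refine sup_le ?_ (zpowers_le.2 ?_)
      · intro l hl
        exact mem_centralizer_singleton_iff.2 (hkc l hl)
      · exact mem_centralizer_singleton_iff.2 (hdR _ hDR)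
    intro l hl
    exact (mem_centralizer_singleton_iff.1 (h1 hl)).symm
  have hmJ : m = (d ^ (n' : ℕ) * k) * (k⁻¹ * m') := by rw [hm']; group
  have hp : d ^ (n' : ℕ) * k ∈ J := mul_mem (pow_mem hdJ _) (hKJ hk)
  have e' : m * j * m⁻¹ = (d ^ (n' : ℕ) * k) * j * (d ^ (n' : ℕ) * k)⁻¹ := by
    rw [hmJ]
    calc d ^ (n' : ℕ) * k * (k⁻¹ * m') * j * (d ^ (n' : ℕ) * k * (k⁻¹ * m'))⁻¹
        = d ^ (n' : ℕ) * k * ((k⁻¹ * m') * j) * (k⁻¹ * m')⁻¹ * (d ^ (n' : ℕ) * k)⁻¹ := by group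
      _ = d ^ (n' : ℕ) * k * (j * (k⁻¹ * m')) * (k⁻¹ * m')⁻¹ * (d ^ (n' : ℕ) * k)⁻¹ := by rw [hxJ j hj]
      _ = _ := by group
  rw [e']
  exact mul_mem (mul_mem hp hj) (inv_mem hp)

end

end Cfsg.Agent.Cit.Nil.Three
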